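import Groth.Agent.Patch17.Final

/-!
# Transport along an isomorphism of bases
-/

set_option autoImplicit false
set_option linter.style.haveILetI false

universe u

open CategoryTheory CategoryTheory.Limits MonoidalCategory CartesianMonoidalCategory MonObj AlgebraicGeometry

namespace Groth.Agent.Patch17

noncomputable section

/-- Restricting an equivariant isomorphism. -/
def restrictEquiv {S : Scheme.{u}} {G H X X' : Over S} [GrpObj G] [GrpObj H] (φ : H ⟶ G) [IsMonHom φ]
    {a : AlgGrp.Action G X} {a' : AlgGrp.Action G X'} (e : NonAbH1.EquivIso a a') :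
    NonAbH1.EquivIso (a.restrict φ) (a'.restrict φ) where
  iso := e.iso
  comm := by
    show (φ ▷ X ≫ a.act) ≫ e.iso.hom = H ◁ e.iso.hom ≫ φ ▷ X' ≫ a'.act
    rw [Category.assoc, e.comm, whisker_exchange_assoc]

/-- Composition of equivariant isomorphisms. -/
def transEquiv {S : Scheme.{u}} {G X X' X'' : Over S} [GrpObj G] {a : AlgGrp.Action G X} {a' : AlgGrp.Action G X'}
    {a'' : AlgGrp.Action G X''} (e : NonAbH1.EquivIso a a') (e' : NonAbH1.EquivIso a' a'') :
    NonAbH1.EquivIso a a'' where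
  iso := e.iso ≪≫ e'.iso
  comm := by
    rw [Iso.trans_hom, reassoc_of% e.comm, e'.comm, MonoidalCategory.whiskerLeft_comp, Category.assoc]

/-- Equal actions. -/
def eqEquiv {S : Scheme.{u}} {G X : Over S} [GrpObj G] {a a' : AlgGrp.Action G X} (h : a.act = a'.act) :
    NonAbH1.EquivIso a a' where
  iso := Iso.refl X
  comm := by rw [Iso.refl_hom, Category.comp_id, MonoidalCategory.whiskerLeft_id, Category.id_comp, h]

section

variable {S B : Scheme.{u}} {k : B ⟶ S} {G : Over S} [GrpObj G]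
  (X : NonAbH1.TorsorSch (Red.bc k G) Scheme.fppfPrecoverage)

/-- A family over the whole base gives a descent. -/
theorem exists_equivIso_self (T₀ : NonAbH1.TorsorSch G Scheme.fppfPrecoverage)
    (f : Over.mk k ⊗ T₀.X ⟶ tot k X.X) (hf : IsEquivFam T₀.act (totAct X.act) f)
    (hfπ : f ≫ totπ k X.X = fst _ _) : Nonempty (NonAbH1.EquivIso (T₀.act.bc k) X.act) := by
  obtain ⟨pf, hpfdef⟩ : ∃ pf, pf = lift (totπ k (Red.bc k T₀.X)) (bcPrj k T₀.X) ≫ f := ⟨_, rfl⟩
  have hpfπ : pf ≫ totπ k X.X = totπ k (Red.bc k T₀.X) := by rw [hpfdef, Category.assoc, hfπ, lift_fst]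
  let φ : Red.bc k T₀.X ⟶ X.X := Over.homMk pf.left (congrArg CommaMorphism.left hpfπ)
  have hφ : (Over.map k).map φ = pf := Over.OverMorphism.ext rfl
  have heq : ∀ {V : Over S} (g : V ⟶ G) (x : V ⟶ tot k (Red.bc k T₀.X)),
      actPt (T₀.act.bc k) g x ≫ (Over.map k).map φ = actPt X.act g (x ≫ (Over.map k).map φ) := by
    intro V g x
    rw [hφ, hpfdef, ← Category.assoc, comp_lift, actPt_π, actPt_prj₀, ← Category.assoc x, comp_lift, ← lift_totAct]
    exact hf _ g _
  have hφe := equivariant_of_tot φ heq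
  haveI : IsIso φ := GITLib.isIso_of_equivariant
    ⟨NonAbH1.isPseudoTorsorSch_bc k T₀.isTorsor.1, NonAbH1.isLocallyTrivialFor_bc k _
      (GITLib.isLocallyTrivialFor_mono Scheme.fppfPrecoverage_le_fpqcPrecoverage T₀.isTorsor.2)⟩
    X.isTorsor.1 φ hφe
  exact ⟨⟨asIso φ, hφe⟩⟩

end

section

variable {S S' : Scheme.{u}} (e : S ≅ S') (G : Over S) [GrpObj G]

/-- `G` is the base change of its transport. -/
def backHom : G ⟶ Red.bc e.hom (Red.bc e.inv G) :=
  (Over.mapPullbackAdj e.hom).homEquiv G (Red.bc e.inv G)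
    ((Over.mapPullbackAdj e.inv).homEquiv ((Over.map e.hom).obj G) G (Over.homMk (𝟙 G.left) (by
      show 𝟙 G.left ≫ G.hom = (G.hom ≫ e.hom) ≫ e.inv
      rw [Category.id_comp, Category.assoc, e.hom_inv_id, Category.comp_id])))

omit [GrpObj G] in
theorem backHom_fst : (backHom e G).left ≫ pullback.fst (Red.bc e.inv G).hom e.hom ≫ pullback.fst G.hom e.inv = 𝟙 _ := by
  rw [← Category.assoc, backHom, homEquiv_left_fst, homEquiv_left_fst]
  rfl

instance isMonHom_backHom : IsMonHom (backHom e G) := by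
  have hmul : (fst G G * snd G G) ≫ backHom e G = (fst G G ≫ backHom e G) * (snd G G ≫ backHom e G) := by
    simp only [backHom, ← Adjunction.homEquiv_naturality_left]
    rw [← AlgGrp.Action.homEquiv_mul, ← AlgGrp.Action.homEquiv_mul]
    congr 2
  have hμ : (μ[G] : G ⊗ G ⟶ G) = fst G G * snd G G := by rw [Hom.mul_def, lift_fst_snd, Category.id_comp]
  have hone : (1 : 𝟙_ (Over S) ⟶ G) ≫ backHom e G = 1 := by
    have h := congrArg (lift (1 : 𝟙_ (Over S) ⟶ G) 1 ≫ ·) hmul
    simp only [MonObj.comp_mul, ← Category.assoc, lift_fst, lift_snd, _root_.mul_one] at h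
    exact mul_left_cancel (a := (1 : 𝟙_ (Over S) ⟶ G) ≫ backHom e G) (by rw [_root_.mul_one]; exact h.symm)
  constructor
  · have h1 : ∀ (H : Over S) [GrpObj H], (1 : 𝟙_ (Over S) ⟶ H) = η := fun H _ => by
      rw [Hom.one_def, toUnit_unique (toUnit _) (𝟙 _), Category.id_comp]
    rw [← h1, ← h1]
    exact hone
  · rw [hμ, hmul, Hom.mul_def, ← lift_map_assoc, lift_fst_snd, Category.id_comp]

end

theorem bcCompIso_coh {S S' B B' : Scheme.{u}} {q : B' ⟶ B} {j : B ⟶ S} {j' : B ⟶ S'} {i : S' ⟶ S} {d' : B' ⟶ S'}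
    {d : B' ⟶ S} (G : Over S) (hj : j' ≫ i = j) (hd' : q ≫ j' = d') (hd : d' ≫ i = d) (h : q ≫ j = d) :
    (ActBC.bcCompIso q j' (Red.bc i G) hd').inv ≫ (Over.pullback q).map (ActBC.bcCompIso j' i G hj).hom =
      (ActBC.bcCompIso d' i G hd).hom ≫ (ActBC.bcCompIso q j G h).inv := by
  rw [Iso.inv_comp_eq, ← Category.assoc, Iso.eq_comp_inv]
  refine hom_bc_ext ?_
  simp only [Over.comp_left, Category.assoc, ActBC.bcCompIso_hom_left_fst, ActBC.bcCompIso_hom_left_fst_assoc,
    ActBC.pullback_map_left_fst_assoc]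

end

end Groth.Agent.Patch17
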