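import Groth.Agent.Patch17.Fibre
import Groth.Agent.GITLib.Orbit

/-!
# Descent of a torsor over `B` to an open of the base in terms of families of equivariant maps
-/

set_option autoImplicit false
set_option linter.style.haveILetI false

universe u

open CategoryTheory CategoryTheory.Limits MonoidalCategory CartesianMonoidalCategory MonObj AlgebraicGeometry

namespace Groth.Agent.Patch17

open Groth.Agent.GITLib

noncomputable section

variable {S B U : Scheme.{u}} (k : B ⟶ S) {G : Over S} [GrpObj G]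
  (X : NonAbH1.TorsorSch (Red.bc k G) Scheme.fppfPrecoverage) {z : S ⟶ B} (hz : z ≫ k = 𝟙 S)

/-- The total space of the torsor. -/
abbrev torTot : Over S := tot k X.X

theorem isRelTorsor_torTot : IsRelTorsor (totAct X.act) (totπ k X.X) := isRelTorsor_tot X.act X.isTorsor.1

/-- The fibre over the zero section. -/
abbrev zeroX : Over S := Red.bc z X.X

/-- Its inclusion. -/
def zeroIncl : zeroX k X (z := z) ⟶ torTot k X :=
  Over.homMk (pullback.fst X.X.hom z) (by
    show pullback.fst X.X.hom z ≫ X.X.hom ≫ k = pullback.snd X.X.hom z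
    rw [pullback.condition_assoc, hz, Category.comp_id])

/-- The section as a morphism over `S`. -/
def zeroSec : 𝟙_ (Over S) ⟶ Over.mk k := Over.homMk z hz

theorem isPullback_zero : IsPullback (zeroIncl k X hz) (toUnit _) (totπ k X.X) (zeroSec k hz) :=
  IsPullback.of_map (Over.forget S) (Over.OverMorphism.ext pullback.condition)
    (IsPullback.of_hasPullback X.X.hom z)

/-- The action on the fibre over zero. -/
def zeroAct : AlgGrp.Action G (zeroX k X (z := z)) :=
  fibreAct (isRelTorsor_torTot k X) (isPullback_zero k X hz)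

theorem isTorsor_zero : NonAbH1.IsTorsorFor Scheme.fppfPrecoverage (zeroAct k X hz) :=
  ⟨isPseudoTorsor_fibre _ _, NonAbH1.isLocallyTrivialFor_bc z _ X.isTorsor.2⟩

/-- The fibre over zero as a torsor. -/
def zeroTorsor : NonAbH1.TorsorSch G Scheme.fppfPrecoverage := ⟨_, zeroAct k X hz, isTorsor_zero k X hz⟩

variable (j : U ⟶ S)

/-- The torsor descends over `U`. -/
def DescFam : Prop :=
  ∃ f : (Over.mk k ⊗ Over.mk j) ⊗ zeroX k X (z := z) ⟶ torTot k X,
    IsEquivFam (zeroAct k X hz) (totAct X.act) f ∧ f ≫ totπ k X.X = fst _ _ ≫ fst _ _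

/-- The first comparison map. -/
theorem descFam_of_equivIso (P : NonAbH1.TorsorSch (Red.bc j G) Scheme.fppfPrecoverage)
    {B' : Scheme.{u}} {q₁ : B' ⟶ B} {q₂ : B' ⟶ U} (hpb : IsPullback q₁ q₂ k j) {d : B' ⟶ S}
    (hq₁ : q₁ ≫ k = d) (hq₂ : q₂ ≫ j = d)
    (e : NonAbH1.EquivIso
      ((P.act.bc q₂).restrict (ActBC.bcCompIso q₂ j G hq₂).inv)
      ((X.act.bc q₁).restrict (ActBC.bcCompIso q₁ k G hq₁).inv)) :
    DescFam k X hz j := by
  let prX : tot d (Red.bc q₁ X.X) ⟶ tot k X.X := totPrj hq₁ X.X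
  let prP : tot d (Red.bc q₂ P.X) ⟶ tot j P.X := totPrj hq₂ P.X
  let b : Over.mk d ⟶ Over.mk k := Over.homMk q₁ hq₁
  let ψ : tot d (Red.bc q₂ P.X) ⟶ torTot k X := (Over.map d).map e.iso.hom ≫ prX
  have hψπ : ψ ≫ totπ k X.X = totπ d (Red.bc q₂ P.X) ≫ b := by
    simp only [ψ, prX, Category.assoc, totπ_prj]
    rw [← Category.assoc]
    exact congrArg (· ≫ b) (Over.OverMorphism.ext (Over.w e.iso.hom))
  -- `B ⊗ P` is the base change of `P`
  let Pt := tot j P.X
  let hl : Over.mk k ⊗ Pt ⟶ Over.mk k ⊗ Over.mk j := Over.mk k ◁ totπ j P.X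
  let l : Over.mk k ⊗ Pt ⟶ tot d (Red.bc q₂ P.X) :=
    Over.homMk (pullback.lift (f := P.X.hom) (g := q₂) (snd (Over.mk k) Pt).left
      (hl.left ≫ hpb.isoPullback.inv) (by
        rw [Category.assoc, IsPullback.isoPullback_inv_snd]
        exact (congrArg CommaMorphism.left (whiskerLeft_snd (Over.mk k) (totπ j P.X))).symm)) (by
        show pullback.lift _ _ _ ≫ (pullback.snd P.X.hom q₂ ≫ d) = _
        rw [pullback.lift_snd_assoc, ← hq₁, Category.assoc, IsPullback.isoPullback_inv_fst_assoc]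
        exact Over.w hl)
  have hlP : l ≫ prP = snd _ _ := Over.OverMorphism.ext (pullback.lift_fst _ _ _)
  have hlπ : l ≫ totπ d (Red.bc q₂ P.X) ≫ b = fst _ _ := by
    refine Over.OverMorphism.ext ?_
    show pullback.lift _ _ _ ≫ pullback.snd P.X.hom q₂ ≫ q₁ = _
    rw [pullback.lift_snd_assoc, Category.assoc, IsPullback.isoPullback_inv_fst]
    exact congrArg CommaMorphism.left (whiskerLeft_fst (Over.mk k) (totπ j P.X))
  let f₁ : Over.mk k ⊗ Pt ⟶ torTot k X := l ≫ ψ
  have hf₁ : ∀ {V : Over S} (t : V ⟶ Over.mk k) (g : V ⟶ G) (p : V ⟶ Pt),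
      lift t (actPt P.act g p) ≫ f₁ = actPt X.act g (lift t p ≫ f₁) := by
    intro V t g p
    have e1 : lift t (actPt P.act g p) ≫ l =
        actPt ((P.act.bc q₂).restrict (ActBC.bcCompIso q₂ j G hq₂).inv) g (lift t p ≫ l) := by
      refine bc_hom_ext_tot hq₂ ?_ ?_
      · rw [actPt_prj, Category.assoc, Category.assoc, hlP, lift_snd, lift_snd]
      · rw [actPt_π, Category.assoc, Category.assoc]
        refine Over.OverMorphism.ext ?_
        simp only [Over.comp_left]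
        show _ ≫ pullback.lift _ _ _ ≫ pullback.snd P.X.hom q₂ = _ ≫ pullback.lift _ _ _ ≫ pullback.snd P.X.hom q₂
        rw [pullback.lift_snd, ← Category.assoc, ← Category.assoc]
        refine congrArg (· ≫ hpb.isoPullback.inv) (congrArg CommaMorphism.left (show lift t (actPt P.act g p) ≫ hl = lift t p ≫ hl from ?_))
        simp only [hl, lift_whiskerLeft, actPt_π]
    simp only [f₁, ψ]
    rw [reassoc_of% e1, reassoc_of% (actPt_map e.iso.hom e.comm g (lift t p ≫ l)), actPt_prj]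
    simp only [Category.assoc, prX]
  have hf₁π : f₁ ≫ totπ k X.X = fst _ _ := by rw [Category.assoc, hψπ, hlπ]
  -- restriction to the origin
  let z₀ := zeroSec k hz
  have hf₀ : (lift (toUnit Pt ≫ z₀) (𝟙 Pt) ≫ f₁) ≫ totπ k X.X = toUnit Pt ≫ z₀ := by
    rw [Category.assoc, hf₁π, lift_fst]
  let f₀ : Pt ⟶ zeroX k X (z := z) := (isPullback_zero k X hz).lift _ _ hf₀
  let ρ : Pt ⟶ Over.mk j ⊗ zeroX k X (z := z) := lift (totπ j P.X) f₀
  have hE : IsRelTorsor (totAct P.act) (totπ j P.X) := isRelTorsor_tot P.act P.isTorsor.1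
  let Bk : Over S := Over.mk j
  let E' := Bk ⊗ zeroX k X (z := z)
  have hf₀e : ∀ {V : Over S} (g : V ⟶ G) (p : V ⟶ Pt),
      (lift g p ≫ (totAct P.act).act) ≫ f₀ = lift g (p ≫ f₀) ≫ (zeroAct k X hz).act := by
    intro V g p
    refine (isPullback_zero k X hz).hom_ext ?_ (toUnit_unique _ _)
    show _ = (_ ≫ (fibreAct _ (isPullback_zero k X hz)).act) ≫ _
    simp only [f₀, Category.assoc, IsPullback.lift_fst, fibreAct_i, lift_whiskerLeft_assoc]
    rw [← Category.assoc (lift g p), lift_totAct, ← Category.assoc, comp_lift, Category.comp_id, comp_toUnit_assoc,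
      hf₁, lift_totAct, ← Category.assoc p, comp_lift, Category.comp_id, comp_toUnit_assoc]
  let aE' : AlgGrp.Action G E' := (AlgGrp.Action.trivial G Bk).prod (zeroAct k X hz)
  have hE' : IsRelTorsor aE' (fst Bk (zeroX k X (z := z))) := by
    have ha : ∀ {V : Over S} (g : V ⟶ G) (x : V ⟶ E'), lift g x ≫ aE'.act =
        lift (x ≫ fst _ _) (lift g (x ≫ snd _ _) ≫ (zeroAct k X hz).act) := fun g x => by
      have hx : x = lift (x ≫ fst _ _) (x ≫ snd _ _) := by rw [← comp_lift, lift_fst_snd, Category.comp_id]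
      conv_lhs => rw [hx]
      rw [AlgGrp.Action.lift_prod_act, AlgGrp.Action.lift_trivial_act]
    refine ⟨?_, fun {V} x y e => ?_⟩
    · have := ha (fst G E') (snd G E')
      rw [lift_fst_snd, Category.id_comp] at this
      rw [this, lift_fst]
    · obtain ⟨g, hg, hu⟩ := existsUnique_diff (isTorsor_zero k X hz).1 (x ≫ snd _ _) (y ≫ snd _ _)
      refine ⟨g, ?_, fun g' hg' => hu g' ?_⟩
      · show lift g x ≫ aE'.act = y
        rw [ha, show lift g (x ≫ snd _ _) ≫ (zeroAct k X hz).act = _ from hg, e, ← comp_lift, lift_fst_snd, Category.comp_id]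
      · show _ = y ≫ snd _ _
        rw [← show lift g' x ≫ aE'.act = y from hg', ha, lift_snd]
  have hρe : ∀ {V : Over S} (g : V ⟶ G) (p : V ⟶ Pt),
      (lift g p ≫ (totAct P.act).act) ≫ ρ = lift g (p ≫ ρ) ≫ aE'.act := by
    intro V g p
    simp only [ρ, aE', comp_lift, hf₀e, AlgGrp.Action.lift_prod_act, AlgGrp.Action.lift_trivial_act]
    rw [Category.assoc, hE.inv, lift_snd_assoc]
    exact congrArg (fun w => lift w _) (lift_snd _ _).symm
  let Sv : Sieve E' :=
    { arrows := fun V f => ∃ x : V ⟶ Pt, x ≫ totπ j P.X = f ≫ fst Bk (zeroX k X (z := z))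
      downward_closed := fun {_ _ _} ⟨x, hx⟩ m => ⟨m ≫ x, by rw [Category.assoc, Category.assoc, hx]⟩ }
  have hSv : Sv ∈ Jq S E' := by
    obtain ⟨R, hR, hs⟩ := P.isTorsor.2
    change Sieve.overEquiv E' Sv ∈ Scheme.fpqcTopology E'.left
    refine GrothendieckTopology.superset_covering _ ?_
      (Scheme.fpqcTopology.pullback_stable (fst Bk (zeroX k X (z := z))).left
        (Precoverage.generate_mem_toGrothendieck (Scheme.fppfPrecoverage_le_fpqcPrecoverage U hR)))
    intro W m hm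
    obtain ⟨W', l', r, hr, hlr⟩ := hm
    obtain ⟨s, hs'⟩ := hs r hr
    rw [Sieve.overEquiv_iff]
    refine ⟨Over.homMk (l' ≫ s) ?_, Over.OverMorphism.ext ?_⟩
    · show (l' ≫ s) ≫ P.X.hom ≫ j = m ≫ E'.hom
      rw [Category.assoc, reassoc_of% hs', reassoc_of% hlr]
      exact congrArg (m ≫ ·) (Over.w (fst Bk (zeroX k X (z := z))))
    · show (l' ≫ s) ≫ P.X.hom = m ≫ (fst Bk (zeroX k X (z := z))).left
      rw [Category.assoc, hs', hlr]
  haveI : IsIso ρ := isIso_relTorsor hE hE' ρ (lift_fst _ _) hρe hSv fun V f hf => hf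
  let f : (Over.mk k ⊗ Over.mk j) ⊗ zeroX k X (z := z) ⟶ torTot k X :=
    lift (fst _ _ ≫ fst _ _) (lift (fst _ _ ≫ snd _ _) (snd _ _) ≫ inv ρ) ≫ f₁
  refine ⟨f, fun {V} t g p => ?_, ?_⟩
  · simp only [f, comp_lift_assoc, lift_fst_assoc, lift_snd]
    rw [lift_totAct, ← hf₁]
    refine congrArg (fun y => lift (t ≫ fst _ _) y ≫ f₁) ?_
    rw [← cancel_mono ρ, Category.assoc, IsIso.inv_hom_id, Category.comp_id, ← lift_totAct, hρe, Category.assoc,
      IsIso.inv_hom_id, Category.comp_id]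
    simp only [aE', AlgGrp.Action.lift_prod_act]
    exact congrArg (fun w => lift w _) (lift_snd _ _).symm
  · simp only [f, Category.assoc, hf₁π, lift_fst]

omit [GrpObj G] in
/-- The structure map to a product. -/
def pairHom {B' : Scheme.{u}} {q₁ : B' ⟶ B} {q₂ : B' ⟶ U} {d : B' ⟶ S} (h₁ : q₁ ≫ k = d) (h₂ : q₂ ≫ j = d) :
    Over.mk d ⟶ Over.mk k ⊗ Over.mk j :=
  lift (Over.homMk q₁ h₁) (Over.homMk q₂ h₂)

variable {k j}

theorem exists_equivIso_of_fam (T₀ : NonAbH1.TorsorSch G Scheme.fppfPrecoverage)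
    (f : (Over.mk k ⊗ Over.mk j) ⊗ T₀.X ⟶ tot k X.X) (hf : IsEquivFam T₀.act (totAct X.act) f)
    (hfπ : f ≫ totπ k X.X = fst _ _ ≫ fst _ _)
    {B' : Scheme.{u}} {q₁ : B' ⟶ B} {q₂ : B' ⟶ U} {d : B' ⟶ S} (h₁ : q₁ ≫ k = d) (h₂ : q₂ ≫ j = d) :
    Nonempty (NonAbH1.EquivIso
      (((T₀.act.bc j).bc q₂).restrict (ActBC.bcCompIso q₂ j G h₂).inv)
      ((X.act.bc q₁).restrict (ActBC.bcCompIso q₁ k G h₁).inv)) := by
  obtain ⟨pf, hpfdef⟩ : ∃ pf, pf = lift (totπ d (Red.bc q₂ (Red.bc j T₀.X)) ≫ pairHom k j h₁ h₂)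
      (totPrj h₂ (Red.bc j T₀.X) ≫ bcPrj j T₀.X) ≫ f := ⟨_, rfl⟩
  have hpfπ : pf ≫ totπ k X.X = totπ d (Red.bc q₂ (Red.bc j T₀.X)) ≫ (Over.homMk q₁ h₁ : Over.mk d ⟶ Over.mk k) := by
    rw [hpfdef, Category.assoc, hfπ, lift_fst_assoc, Category.assoc, pairHom, lift_fst]
  let φ : Red.bc q₂ (Red.bc j T₀.X) ⟶ Red.bc q₁ X.X :=
    Over.homMk (pullback.lift pf.left (Red.bc q₂ (Red.bc j T₀.X)).hom (congrArg CommaMorphism.left hpfπ))
      (pullback.lift_snd _ _ _)
  have hφ : (Over.map d).map φ ≫ totPrj h₁ X.X = pf := Over.OverMorphism.ext (pullback.lift_fst _ _ _)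
  have hφπ : (Over.map d).map φ ≫ totπ d (Red.bc q₁ X.X) = totπ d _ := Over.OverMorphism.ext (Over.w φ)
  have heq : ∀ {V : Over S} (g : V ⟶ G) (x : V ⟶ tot d (Red.bc q₂ (Red.bc j T₀.X))),
      actPt (((T₀.act.bc j).bc q₂).restrict (ActBC.bcCompIso q₂ j G h₂).inv) g x ≫ (Over.map d).map φ =
        actPt ((X.act.bc q₁).restrict (ActBC.bcCompIso q₁ k G h₁).inv) g (x ≫ (Over.map d).map φ) := by
    intro V g x
    refine bc_hom_ext_tot h₁ ?_ ?_
    · rw [Category.assoc, hφ, actPt_prj, Category.assoc, hφ, hpfdef]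
      simp only [comp_lift_assoc]
      rw [reassoc_of% (actPt_π (((T₀.act.bc j).bc q₂).restrict (ActBC.bcCompIso q₂ j G h₂).inv) g x),
        reassoc_of% (actPt_prj h₂ (T₀.act.bc j) g x), actPt_prj₀, ← lift_totAct]
      simp only [Category.assoc]
      exact hf _ g _
    · rw [actPt_π, Category.assoc, hφπ, actPt_π, Category.assoc, hφπ]
  have hφe := equivariant_of_tot φ heq
  have hloc : NonAbH1.IsLocallyTrivialFor Scheme.fpqcPrecoverage (Red.bc q₂ (Red.bc j T₀.X)) :=
    NonAbH1.isLocallyTrivialFor_bc q₂ _ (NonAbH1.isLocallyTrivialFor_bc j _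
      (isLocallyTrivialFor_mono Scheme.fppfPrecoverage_le_fpqcPrecoverage T₀.isTorsor.2))
  haveI : IsIso φ := isIso_of_equivariant
    ⟨isPseudoTorsor_restrict _ (NonAbH1.isPseudoTorsorSch_bc q₂ (NonAbH1.isPseudoTorsorSch_bc j T₀.isTorsor.1)), hloc⟩
    (isPseudoTorsor_restrict _ (NonAbH1.isPseudoTorsorSch_bc q₁ X.isTorsor.1)) φ hφe
  exact ⟨⟨asIso φ, hφe⟩⟩

/-- The converse: a family gives an equivariant isomorphism. -/
theorem exists_equivIso_of_descFam (h : DescFam k X hz j) :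
    Nonempty (NonAbH1.EquivIso
      ((((zeroTorsor k X hz).bc j).act.bc (pullback.snd k j)).restrict
        (ActBC.bcCompIso (pullback.snd k j) j G rfl).inv)
      ((X.act.bc (pullback.fst k j)).restrict
        (ActBC.bcCompIso (pullback.fst k j) k G pullback.condition).inv)) := by
  obtain ⟨f, hf, hfπ⟩ := h
  exact exists_equivIso_of_fam X (zeroTorsor k X hz) f hf hfπ pullback.condition rfl

end

end Groth.Agent.Patch17
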