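import Groth.Agent.GITLib.TorsorSch
import Groth.Agent.GITLib.Orbit

/-!
# Equivariant families of maps out of a torsor

`f : T ⊗ P₀ ⟶ E` is a `T`-family of equivariant maps from the torsor `P₀` to `E`.
-/

set_option autoImplicit false

universe u

open CategoryTheory MonoidalCategory CartesianMonoidalCategory MonObj AlgebraicGeometry

namespace Groth.Agent.Patch17

open Groth.Agent.GITLib

variable {S : Scheme.{u}} {G P₀ E B T T' U : Over S} [GrpObj G]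
  (a₀ : AlgGrp.Action G P₀) (aE : AlgGrp.Action G E)

/-- A family of equivariant maps, on points. -/
def IsEquivFam (f : T ⊗ P₀ ⟶ E) : Prop :=
  ∀ {W : Over S} (t : W ⟶ T) (g : W ⟶ G) (p : W ⟶ P₀),
    lift t (lift g p ≫ a₀.act) ≫ f = lift g (lift t p ≫ f) ≫ aE.act

/-- A torsor relative to `π : E ⟶ B`, on points. -/
structure IsRelTorsor (π : E ⟶ B) : Prop where
  inv : aE.act ≫ π = snd G E ≫ π
  diff : ∀ {W : Over S} (x y : W ⟶ E), x ≫ π = y ≫ π → ∃! g : W ⟶ G, lift g x ≫ aE.act = y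

variable {a₀ aE}

theorem isRelTorsor_toUnit (h : NonAbH1.IsPseudoTorsorSch a₀) : IsRelTorsor a₀ (toUnit P₀) :=
  ⟨toUnit_unique _ _, fun x y _ => existsUnique_diff h x y⟩

theorem isEquivFam_snd : IsEquivFam a₀ a₀ (snd T P₀) := fun t g p => by
  rw [lift_snd, lift_snd]

theorem IsEquivFam.whiskerRight {f : T ⊗ P₀ ⟶ E} (hf : IsEquivFam a₀ aE f) (k : T' ⟶ T) :
    IsEquivFam a₀ aE (k ▷ P₀ ≫ f) := fun t g p => by
  rw [lift_whiskerRight_assoc, lift_whiskerRight_assoc, hf]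

theorem IsEquivFam.comp {f : T ⊗ P₀ ⟶ E} (hf : IsEquivFam a₀ aE f) {θ : T ⊗ P₀ ⟶ P₀}
    (hθ : IsEquivFam a₀ a₀ θ) : IsEquivFam a₀ aE (lift (fst T P₀) θ ≫ f) := fun t g p => by
  rw [comp_lift_assoc, comp_lift_assoc, lift_fst, lift_fst, hθ, hf]

/-- Two families over the same points of the base differ by a unique family of automorphisms. -/
theorem existsUnique_autFam {π : E ⟶ B} (hE : IsRelTorsor aE π) (h₀ : NonAbH1.IsPseudoTorsorSch a₀)
    {f₁ f₂ : T ⊗ P₀ ⟶ E} (h₁ : IsEquivFam a₀ aE f₁) (h₂ : IsEquivFam a₀ aE f₂) (he : f₁ ≫ π = f₂ ≫ π) :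
    ∃! θ : T ⊗ P₀ ⟶ P₀, IsEquivFam a₀ a₀ θ ∧ lift (fst T P₀) θ ≫ f₁ = f₂ := by
  obtain ⟨γ, hγ, hγu⟩ := hE.diff f₁ f₂ he
  let θ := lift γ (snd T P₀) ≫ a₀.act
  have key : ∀ {W : Over S} (t : W ⟶ T) (p : W ⟶ P₀), lift t p ≫ θ = lift (lift t p ≫ γ) p ≫ a₀.act :=
    fun t p => by simp only [θ, comp_lift_assoc, lift_snd]
  have hγ' : ∀ {W : Over S} (t : W ⟶ T) (p : W ⟶ P₀),
      lift (lift t p ≫ γ) (lift t p ≫ f₁) ≫ aE.act = lift t p ≫ f₂ := fun t p => by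
    rw [← comp_lift_assoc]
    exact congrArg (lift t p ≫ ·) hγ
  refine ⟨θ, ⟨fun {W} t g p => ?_, ?_⟩, ?_⟩
  · rw [key, key, ← a₀.lift_mul_act, ← a₀.lift_mul_act]
    congr 2
    have e1 := hγ' t (lift g p ≫ a₀.act)
    rw [h₁, h₂, ← hγ' t p, ← aE.lift_mul_act, ← aE.lift_mul_act] at e1
    exact (hE.diff (lift t p ≫ f₁) _ (by
      simp only [Category.assoc, hE.inv, lift_snd_assoc])).unique e1 rfl
  · refine Eq.trans ?_ hγ
    have := h₁ (fst T P₀) γ (snd T P₀)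
    rw [lift_fst_snd, Category.id_comp] at this
    exact this
  · rintro θ' ⟨-, hθ'⟩
    obtain ⟨g, hg, -⟩ := existsUnique_diff h₀ (snd T P₀) θ'
    have : g = γ := hγu g (by
      show lift g f₁ ≫ aE.act = f₂
      rw [← hθ', ← hg, h₁, lift_fst_snd, Category.id_comp])
    rw [← hg, this]

/-- The inverse of a family of automorphisms. -/
theorem exists_inv (h₀ : NonAbH1.IsPseudoTorsorSch a₀) {θ : T ⊗ P₀ ⟶ P₀} (hθ : IsEquivFam a₀ a₀ θ) :
    ∃ κ : T ⊗ P₀ ⟶ P₀, IsEquivFam a₀ a₀ κ ∧ lift (fst T P₀) κ ≫ θ = snd T P₀ :=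
  (existsUnique_autFam (isRelTorsor_toUnit h₀) h₀ hθ isEquivFam_snd (toUnit_unique _ _)).exists

theorem IsEquivFam.cancel {π : E ⟶ B} (hE : IsRelTorsor aE π) (h₀ : NonAbH1.IsPseudoTorsorSch a₀)
    {f : T ⊗ P₀ ⟶ E} (hf : IsEquivFam a₀ aE f) {θ θ' : T ⊗ P₀ ⟶ P₀} (hθ : IsEquivFam a₀ a₀ θ)
    (hθ' : IsEquivFam a₀ a₀ θ') (hπ : lift (fst T P₀) θ ≫ f ≫ π = f ≫ π)
    (e : lift (fst T P₀) θ ≫ f = lift (fst T P₀) θ' ≫ f) : θ = θ' :=
  (existsUnique_autFam hE h₀ hf (hf.comp hθ) (by rw [Category.assoc, hπ])).unique ⟨hθ, rfl⟩ ⟨hθ', e.symm⟩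

/-- Families are determined on the members of a trivialising covering. -/
theorem IsEquivFam.ext (h₀ : NonAbH1.IsPseudoTorsorSch a₀)
    (hU : NonAbH1.IsLocallyTrivialFor Scheme.fpqcPrecoverage U) (s₀ : U ⟶ P₀) {f f' : T ⊗ P₀ ⟶ E}
    (hf : IsEquivFam a₀ aE f) (hf' : IsEquivFam a₀ aE f') (e : T ◁ s₀ ≫ f = T ◁ s₀ ≫ f') : f = f' := by
  refine hom_ext_q (pointSieve_mem hU (T ⊗ P₀)) fun W k hk => ?_
  obtain ⟨w⟩ := hk
  obtain ⟨g, hg, -⟩ := existsUnique_diff h₀ (w ≫ s₀) (k ≫ snd T P₀)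
  have hk' : k = lift (k ≫ fst T P₀) (lift g (w ≫ s₀) ≫ a₀.act) := by
    rw [show lift g (w ≫ s₀) ≫ a₀.act = k ≫ snd T P₀ from hg, ← comp_lift, lift_fst_snd, Category.comp_id]
  rw [hk', hf, hf']
  have := congrArg (lift (k ≫ fst T P₀) w ≫ ·) e
  simp only [lift_whiskerLeft_assoc] at this
  rw [this]

/-- A family is given by its values on a trivialisation, subject to the cocycle identity. -/
theorem exists_fam (h₀ : NonAbH1.IsPseudoTorsorSch a₀)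
    (hU : NonAbH1.IsLocallyTrivialFor Scheme.fpqcPrecoverage U) (s₀ : U ⟶ P₀) (h : T ⊗ U ⟶ E)
    (hh : ∀ {W : Over S} (t : W ⟶ T) (w w' : W ⟶ U) (g : W ⟶ G),
      lift g (w ≫ s₀) ≫ a₀.act = w' ≫ s₀ → lift g (lift t w ≫ h) ≫ aE.act = lift t w' ≫ h) :
    ∃ f : T ⊗ P₀ ⟶ E, IsEquivFam a₀ aE f ∧ T ◁ s₀ ≫ f = h := by
  let Sv := pointSieve U (T ⊗ P₀)
  have hSv := pointSieve_mem hU (T ⊗ P₀)
  let val : ∀ {W : Over S}, (W ⟶ T ⊗ P₀) → (W ⟶ U) → (W ⟶ E) := fun {W} k w =>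
    lift (existsUnique_diff h₀ (w ≫ s₀) (k ≫ snd T P₀)).choose (lift (k ≫ fst T P₀) w ≫ h) ≫ aE.act
  have indep : ∀ {W : Over S} (t : W ⟶ T) (g g' : W ⟶ G) (w w' : W ⟶ U),
      lift g (w ≫ s₀) ≫ a₀.act = lift g' (w' ≫ s₀) ≫ a₀.act →
      lift g (lift t w ≫ h) ≫ aE.act = lift g' (lift t w' ≫ h) ≫ aE.act := by
    intro W t g g' w w' e
    obtain ⟨d, hd, -⟩ := existsUnique_diff h₀ (w ≫ s₀) (w' ≫ s₀)
    rw [← hh t w w' d hd, ← aE.lift_mul_act]
    rw [← hd, ← a₀.lift_mul_act] at e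
    rw [(existsUnique_diff h₀ (w ≫ s₀) _).unique e rfl]
  have val_comp : ∀ {W₁ W : Over S} (l : W ⟶ W₁) (k : W₁ ⟶ T ⊗ P₀) (w : W₁ ⟶ U), l ≫ val k w =
      lift (l ≫ (existsUnique_diff h₀ (w ≫ s₀) (k ≫ snd T P₀)).choose)
        (lift ((l ≫ k) ≫ fst T P₀) (l ≫ w) ≫ h) ≫ aE.act := fun l k w => by
    simp only [val, comp_lift_assoc, Category.assoc]
  have spec_comp : ∀ {W₁ W : Over S} (l : W ⟶ W₁) (k : W₁ ⟶ T ⊗ P₀) (w : W₁ ⟶ U),
      lift (l ≫ (existsUnique_diff h₀ (w ≫ s₀) (k ≫ snd T P₀)).choose) ((l ≫ w) ≫ s₀) ≫ a₀.act =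
        (l ≫ k) ≫ snd T P₀ := fun l k w => by
    rw [Category.assoc l w, ← comp_lift_assoc, (existsUnique_diff h₀ (w ≫ s₀) (k ≫ snd T P₀)).choose_spec.1,
      Category.assoc]
  let fam : Presieve.FamilyOfElements (yoneda.obj E) Sv.arrows := fun W k hk => val k hk.some
  have hfam : fam.Compatible := by
    intro W₁ W₂ W l₁ l₂ k₁ k₂ m₁ m₂ e
    show l₁ ≫ val k₁ m₁.some = l₂ ≫ val k₂ m₂.some
    rw [val_comp l₁ k₁ m₁.some, val_comp l₂ k₂ m₂.some, e]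
    refine indep _ _ _ _ _ ?_
    rw [spec_comp l₁ k₁ m₁.some, spec_comp l₂ k₂ m₂.some, e]
  let f := (isSheaf_yoneda_q E Sv hSv).amalgamate fam hfam
  have hval : ∀ {W : Over S} (t : W ⟶ T) (g : W ⟶ G) (w : W ⟶ U),
      lift t (lift g (w ≫ s₀) ≫ a₀.act) ≫ f = lift g (lift t w ≫ h) ≫ aE.act := by
    intro W t g w
    have hk : Sv.arrows (lift t (lift g (w ≫ s₀) ≫ a₀.act)) := ⟨w⟩
    rw [show lift t (lift g (w ≫ s₀) ≫ a₀.act) ≫ f = fam _ hk from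
      (isSheaf_yoneda_q E Sv hSv).valid_glue hfam _ hk]
    show val _ hk.some = _
    simp only [val]
    have e1 := (existsUnique_diff h₀ (hk.some ≫ s₀) (lift t (lift g (w ≫ s₀) ≫ a₀.act) ≫ snd T P₀)).choose_spec.1
    rw [lift_fst]
    exact indep t _ _ _ _ (e1.trans (lift_snd _ _))
  refine ⟨f, fun {W} t g p => ?_, ?_⟩
  · refine hom_ext_q (pointSieve_mem hU W) fun W' l hl => ?_
    obtain ⟨w⟩ := hl
    obtain ⟨d, hd, -⟩ := existsUnique_diff h₀ (w ≫ s₀) (l ≫ p)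
    rw [comp_lift_assoc, comp_lift_assoc, comp_lift_assoc, comp_lift_assoc, ← hd, ← a₀.lift_mul_act, hval, hval,
      aE.lift_mul_act]
  · have := hval (fst T U) 1 (snd T U)
    rw [a₀.lift_one_act, aE.lift_one_act, lift_fst_snd, Category.id_comp] at this
    rw [← this]
    refine congrArg (· ≫ f) (CartesianMonoidalCategory.hom_ext _ _ ?_ ?_) <;> simp

/-- Families glue along an open covering of the parameters. -/
theorem exists_glue_fam {J : Type u} {W : J → Over S} (k : ∀ i, W i ⟶ T) [∀ i, IsOpenImmersion (k i).left]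
    (hcov : ∀ x : T.left, ∃ i, x ∈ Set.range (k i).left.base)
    (f : ∀ i, W i ⊗ P₀ ⟶ E) (hf : ∀ i, IsEquivFam a₀ aE (f i))
    (hcomp : ∀ i j {V : Over S} (x : V ⟶ W i) (y : V ⟶ W j), x ≫ k i = y ≫ k j → x ▷ P₀ ≫ f i = y ▷ P₀ ≫ f j) :
    ∃ F : T ⊗ P₀ ⟶ E, IsEquivFam a₀ aE F ∧ ∀ i, k i ▷ P₀ ≫ F = f i := by
  have hoi : ∀ i, IsOpenImmersion (k i ▷ P₀).left := fun i =>
    MorphismProperty.of_isPullback (P := @IsOpenImmersion) (isPullback_whiskerRight (k i) P₀) inferInstance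
  let 𝒰 : (T ⊗ P₀).left.OpenCover :=
    { I₀ := J
      X := fun i => (W i ⊗ P₀).left
      f := fun i => (k i ▷ P₀).left
      mem₀ := by
        rw [Scheme.presieve₀_mem_precoverage_iff]
        refine ⟨fun z => ?_, hoi⟩
        obtain ⟨i, x, hx⟩ := hcov ((fst T P₀).left.base z)
        obtain ⟨w, -, hw⟩ := Scheme.Pullback.exists_preimage_pullback (f := (k i).left) (g := (fst T P₀).left) x z hx
        refine ⟨i, ((isPullback_whiskerRight (k i) P₀).isoPullback.inv).base w, ?_⟩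
        rw [← Scheme.Hom.comp_apply, IsPullback.isoPullback_inv_snd]
        exact hw }
  have glue : ∀ i j, Limits.pullback.fst (𝒰.f i) (𝒰.f j) ≫ (f i).left =
      Limits.pullback.snd (𝒰.f i) (𝒰.f j) ≫ (f j).left := by
    intro i j
    let V : Over S := Over.mk (Limits.pullback.fst (𝒰.f i) (𝒰.f j) ≫ (W i ⊗ P₀).hom)
    let x : V ⟶ W i ⊗ P₀ := Over.homMk (Limits.pullback.fst (𝒰.f i) (𝒰.f j)) rfl
    let y : V ⟶ W j ⊗ P₀ := Over.homMk (Limits.pullback.snd (𝒰.f i) (𝒰.f j)) (by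
      show Limits.pullback.snd (𝒰.f i) (𝒰.f j) ≫ (W j ⊗ P₀).hom = _
      rw [← Over.w (k j ▷ P₀), ← Category.assoc, ← Limits.pullback.condition, Category.assoc]
      exact congrArg (_ ≫ ·) (Over.w (k i ▷ P₀)))
    have hxy : x ≫ k i ▷ P₀ = y ≫ k j ▷ P₀ := Over.OverMorphism.ext Limits.pullback.condition
    have h1 := congrArg (· ≫ fst T P₀) hxy
    have h2 := congrArg (· ≫ snd T P₀) hxy
    simp only [Category.assoc, whiskerRight_fst, whiskerRight_snd] at h1 h2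
    have e := congrArg (lift (𝟙 V) (x ≫ snd (W i) P₀) ≫ ·)
      (hcomp i j (x ≫ fst _ _) (y ≫ fst _ _) (by simpa using h1))
    simp only [lift_whiskerRight_assoc, Category.id_comp] at e
    have hx : lift (x ≫ fst _ _) (x ≫ snd _ _) = x := by rw [← comp_lift, lift_fst_snd, Category.comp_id]
    have hy : lift (y ≫ fst _ _) (x ≫ snd _ _) = y := by rw [h2, ← comp_lift, lift_fst_snd, Category.comp_id]
    rw [hx, hy] at e
    exact congrArg CommaMorphism.left e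
  let Fl := 𝒰.glueMorphisms (fun i => (f i).left) glue
  have hFl : ∀ i, (k i ▷ P₀).left ≫ Fl = (f i).left := fun i => 𝒰.ι_glueMorphisms _ glue i
  let F : T ⊗ P₀ ⟶ E := Over.homMk Fl (𝒰.hom_ext _ _ fun i => by
    show (k i ▷ P₀).left ≫ Fl ≫ E.hom = _
    rw [reassoc_of% hFl, Over.w]
    exact (Over.w (k i ▷ P₀)).symm)
  have hF : ∀ i, k i ▷ P₀ ≫ F = f i := fun i => Over.OverMorphism.ext (hFl i)
  refine ⟨F, fun {V} t g p => ?_, hF⟩
  let 𝒲 : V.left.OpenCover :=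
    ((Scheme.openCoverOfIsOpenCover T.left (fun i => (k i).left.opensRange)
      (TopologicalSpace.IsOpenCover.mk (TopologicalSpace.Opens.ext (Set.eq_univ_of_forall fun x =>
        TopologicalSpace.Opens.mem_iSup.mpr (hcov x))))).pullback₁ t.left)
  refine Over.OverMorphism.ext (𝒲.hom_ext _ _ fun (i : J) => ?_)
  let c : Over S := Over.mk ((Limits.pullback.fst t.left (k i).left.opensRange.ι) ≫ V.hom)
  let cV : c ⟶ V := Over.homMk (Limits.pullback.fst t.left (k i).left.opensRange.ι) rfl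
  let tl : c.left ⟶ (W i).left :=
    Limits.pullback.snd t.left (k i).left.opensRange.ι ≫ (k i).left.isoOpensRange.inv
  have htl : tl ≫ (k i).left = cV.left ≫ t.left := by
    rw [Category.assoc, Scheme.Hom.isoOpensRange_inv_comp]
    exact Limits.pullback.condition.symm
  let t' : c ⟶ W i := Over.homMk tl (by
    show tl ≫ (W i).hom = Limits.pullback.fst t.left (k i).left.opensRange.ι ≫ V.hom
    rw [← Over.w (k i), ← Category.assoc, htl, Category.assoc, Over.w t]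
    rfl)
  have ht : t' ≫ k i = cV ≫ t := Over.OverMorphism.ext htl
  suffices e : cV ≫ lift t (lift g p ≫ a₀.act) ≫ F = cV ≫ lift g (lift t p ≫ F) ≫ aE.act from
    congrArg CommaMorphism.left e
  rw [comp_lift_assoc, comp_lift_assoc, comp_lift_assoc, comp_lift_assoc, ← ht]
  have e := hf i t' (cV ≫ g) (cV ≫ p)
  rw [← hF i, lift_whiskerRight_assoc, lift_whiskerRight_assoc] at e
  exact e

end Groth.Agent.Patch17
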