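import Mathlib.AlgebraicGeometry.Pullbacks
import Mathlib.CategoryTheory.Monoidal.Cartesian.Over
import Mathlib.RingTheory.MvPolynomial.Basic
import Mathlib.RingTheory.Localization.Away.Basic
import Mathlib.RingTheory.TensorProduct.Maps
import Mathlib.AlgebraicGeometry.Morphisms.Affine

/-!
# Affine schemes over an affine base
-/

set_option autoImplicit false
set_option linter.style.haveILetI false

universe u

open CategoryTheory MonoidalCategory CartesianMonoidalCategory AlgebraicGeometry
open scoped TensorProduct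

namespace Groth.Agent.Patch17

noncomputable section

variable {R : Type u} [CommRing R]

/-- `Spec A` over `Spec R`. -/
abbrev SA (A : Type u) [CommRing A] [Algebra R A] : Over (Spec (CommRingCat.of R)) :=
  Over.mk (Spec.map (CommRingCat.ofHom (algebraMap R A)))

variable {A B C D : Type u} [CommRing A] [Algebra R A] [CommRing B] [Algebra R B] [CommRing C] [Algebra R C]
  [CommRing D] [Algebra R D]

/-- The morphism of spectra of an algebra map. -/
def pt (f : A →ₐ[R] B) : SA (R := R) B ⟶ SA (R := R) A :=
  Over.homMk (Spec.map (CommRingCat.ofHom f.toRingHom)) (by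
    show Spec.map _ ≫ Spec.map _ = Spec.map _
    rw [← Spec.map_comp, ← CommRingCat.ofHom_comp]
    erw [f.comp_algebraMap])

@[simp] theorem pt_left (f : A →ₐ[R] B) : (pt f).left = Spec.map (CommRingCat.ofHom f.toRingHom) := rfl

theorem pt_comp (f : A →ₐ[R] B) (g : B →ₐ[R] C) : pt g ≫ pt f = pt (g.comp f) := by
  refine Over.OverMorphism.ext ?_
  show Spec.map _ ≫ Spec.map _ = Spec.map _
  rw [← Spec.map_comp, ← CommRingCat.ofHom_comp]
  rfl

theorem pt_id : pt (AlgHom.id R A) = 𝟙 _ := Over.OverMorphism.ext (Spec.map_id _)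

theorem pt_comp_assoc (f : A →ₐ[R] B) (g : B →ₐ[R] C) {X : Over (Spec (CommRingCat.of R))}
    (h : SA (R := R) A ⟶ X) : pt g ≫ pt f ≫ h = pt (g.comp f) ≫ h := by
  rw [← Category.assoc, pt_comp]

/-- The comparison of the spectrum of a tensor product with the product. -/
def prodHom : SA (R := R) (A ⊗[R] B) ⟶ SA (R := R) A ⊗ SA (R := R) B :=
  lift (pt Algebra.TensorProduct.includeLeft) (pt Algebra.TensorProduct.includeRight)

instance isIso_prodHom : IsIso (prodHom (R := R) (A := A) (B := B)) := by
  haveI : IsIso ((Over.forget _).map (prodHom (R := R) (A := A) (B := B))) := by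
    show IsIso (prodHom (R := R) (A := A) (B := B)).left
    have e : (prodHom (R := R) (A := A) (B := B)).left = (pullbackSpecIso R A B).inv := by
      apply Limits.pullback.hom_ext
      · refine Eq.trans ?_ (pullbackSpecIso_inv_fst R A B).symm
        exact congrArg CommaMorphism.left (lift_fst (pt (Algebra.TensorProduct.includeLeft : A →ₐ[R] A ⊗[R] B)) _)
      · refine Eq.trans ?_ (pullbackSpecIso_inv_snd R A B).symm
        exact congrArg CommaMorphism.left
          (lift_snd (pt (Algebra.TensorProduct.includeLeft : A →ₐ[R] A ⊗[R] B))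
            (pt (Algebra.TensorProduct.includeRight : B →ₐ[R] A ⊗[R] B)))
    rw [e]
    infer_instance
  exact isIso_of_reflects_iso _ (Over.forget _)

variable (A D) (n : Type u)

/-- Coefficients in a tensor product. -/
def baseMap : MvPolynomial n A →ₐ[R] MvPolynomial n (A ⊗[R] D) :=
  MvPolynomial.mapAlgHom Algebra.TensorProduct.includeLeft

/-- The second factor as constants. -/
def constMap : D →ₐ[R] MvPolynomial n (A ⊗[R] D) :=
  (IsScalarTower.toAlgHom R (A ⊗[R] D) (MvPolynomial n (A ⊗[R] D))).comp Algebra.TensorProduct.includeRight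

/-- `A[T] ⊗ D ≅ (A ⊗ D)[T]`. -/
def polyTensor : MvPolynomial n A ⊗[R] D ≃ₐ[R] MvPolynomial n (A ⊗[R] D) :=
  AlgEquiv.ofAlgHom
    (Algebra.TensorProduct.lift (baseMap A D n) (constMap A D n) fun _ _ => Commute.all _ _)
    { MvPolynomial.eval₂Hom
        (Algebra.TensorProduct.map (IsScalarTower.toAlgHom R A (MvPolynomial n A)) (AlgHom.id R D)).toRingHom
        (fun i => MvPolynomial.X i ⊗ₜ[R] (1 : D)) with
      commutes' := fun r => by
        show MvPolynomial.eval₂Hom _ _ (MvPolynomial.C (algebraMap R (A ⊗[R] D) r)) = _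
        rw [MvPolynomial.eval₂Hom_C]
        exact AlgHom.commutes _ r }
    (by
      refine AlgHom.coe_ringHom_injective (MvPolynomial.ringHom_ext (fun x => ?_) fun i => ?_)
      · show Algebra.TensorProduct.lift (baseMap A D n) (constMap A D n) (fun _ _ => Commute.all _ _) (MvPolynomial.eval₂Hom _ _ (MvPolynomial.C x)) = MvPolynomial.C x
        rw [MvPolynomial.eval₂Hom_C]
        induction x using TensorProduct.induction_on with
        | zero => simp
        | tmul a d => simp [baseMap, constMap, ← map_mul]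
        | add x y hx hy => simp only [map_add, hx, hy]
      · show Algebra.TensorProduct.lift (baseMap A D n) (constMap A D n) (fun _ _ => Commute.all _ _) (MvPolynomial.eval₂Hom _ _ (MvPolynomial.X i)) = MvPolynomial.X i
        rw [MvPolynomial.eval₂Hom_X']
        simp [baseMap, constMap, ← Algebra.TensorProduct.one_def])
    (by
      refine Algebra.TensorProduct.ext' fun p d => ?_
      show MvPolynomial.eval₂Hom _ _ (Algebra.TensorProduct.lift (baseMap A D n) (constMap A D n) (fun _ _ => Commute.all _ _) (p ⊗ₜ[R] d)) = p ⊗ₜ d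
      rw [Algebra.TensorProduct.lift_tmul, map_mul]
      induction p using MvPolynomial.induction_on with
      | C a => simp [baseMap, constMap]
      | add p q hp hq => simp only [map_add, add_mul, hp, hq, TensorProduct.add_tmul]
      | mul_X p i hp =>
        rw [map_mul (baseMap A D n), map_mul, mul_right_comm, hp]
        simp [baseMap])

/-- `Spec (A ⊗ D)[T]` is the product of `Spec A[T]` and `Spec D`. -/
def qD : SA (R := R) (MvPolynomial n (A ⊗[R] D)) ⟶ SA (R := R) (MvPolynomial n A) ⊗ SA (R := R) D :=
  lift (pt (baseMap A D n)) (pt (constMap A D n))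

theorem qD_eq : qD (R := R) A D n = pt (polyTensor (R := R) A D n).toAlgHom ≫ prodHom := by
  rw [prodHom, comp_lift, pt_comp, pt_comp, qD]
  congr 1 <;> congr 1 <;> exact AlgHom.ext fun x => by simp [polyTensor]

instance isIso_qD : IsIso (qD (R := R) A D n) := by
  haveI : IsIso (pt (R := R) (polyTensor (R := R) A D n).toAlgHom) :=
    ⟨pt (polyTensor (R := R) A D n).symm.toAlgHom,
      by
        rw [pt_comp, ← pt_id]
        exact congrArg pt (AlgHom.ext fun x => (polyTensor (R := R) A D n).apply_symm_apply x),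
      by
        rw [pt_comp, ← pt_id]
        exact congrArg pt (AlgHom.ext fun x => (polyTensor (R := R) A D n).symm_apply_apply x)⟩
  rw [qD_eq]
  infer_instance

variable {A} {A' : Type u} [CommRing A'] [Algebra R A'] [Algebra A A'] [IsScalarTower R A A'] (s : A)

/-- Localisation commutes with extension of scalars. -/
theorem isAway_tensor [IsLocalization.Away s A'] :
    letI := (Algebra.TensorProduct.map (IsScalarTower.toAlgHom R A A') (AlgHom.id R D)).toRingHom.toAlgebra
    IsLocalization.Away (s ⊗ₜ[R] (1 : D)) (A' ⊗[R] D) := by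
  let φ := Algebra.TensorProduct.map (IsScalarTower.toAlgHom R A A') (AlgHom.id R D)
  letI := φ.toRingHom.toAlgebra
  have hφ : ∀ x, algebraMap (A ⊗[R] D) (A' ⊗[R] D) x = φ x := fun _ => rfl
  have hs : φ (s ⊗ₜ 1) = algebraMap A A' s ⊗ₜ 1 := by simp [φ]
  refine ⟨⟨?_, ?_, ?_⟩⟩
  · rintro ⟨_, N, rfl⟩
    rw [map_pow, hφ, hs]
    exact ((IsLocalization.Away.algebraMap_isUnit (S := A') s).map
      (Algebra.TensorProduct.includeLeft : A' →ₐ[R] A' ⊗[R] D)).pow N
  · have key : ∀ z : A' ⊗[R] D, ∃ (N : ℕ) (x : A ⊗[R] D), z * φ (s ⊗ₜ 1) ^ N = φ x := by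
      intro z
      induction z using TensorProduct.induction_on with
      | zero => exact ⟨0, 0, by simp⟩
      | tmul a d =>
        obtain ⟨N, b, hb⟩ := IsLocalization.Away.surj s a
        refine ⟨N, b ⊗ₜ d, ?_⟩
        rw [hs, Algebra.TensorProduct.tmul_pow, Algebra.TensorProduct.tmul_mul_tmul, hb]
        simp [φ]
      | add z w hz hw =>
        obtain ⟨N, x, hx⟩ := hz
        obtain ⟨M, y, hy⟩ := hw
        refine ⟨N + M, x * (s ⊗ₜ 1) ^ M + y * (s ⊗ₜ 1) ^ N, ?_⟩
        rw [map_add, map_mul, map_mul, map_pow, map_pow, ← hx, ← hy]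
        ring
    intro z
    obtain ⟨N, x, hx⟩ := key z
    exact ⟨⟨x, ⟨_, N, rfl⟩⟩, by rw [map_pow]; exact hx⟩
  · intro x y hxy
    let L := Localization.Away (s ⊗ₜ[R] (1 : D))
    let j : A →+* L := (algebraMap (A ⊗[R] D) L).comp Algebra.TensorProduct.includeLeftRingHom
    have hj : IsUnit (j s) := IsLocalization.Away.algebraMap_isUnit (S := L) (s ⊗ₜ[R] (1 : D))
    let l : A' →ₐ[R] L :=
      { IsLocalization.Away.lift (x := s) hj with
        commutes' := fun r => by
          show IsLocalization.Away.lift (x := s) hj (algebraMap R A' r) = _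
          rw [IsScalarTower.algebraMap_apply R A A', IsLocalization.Away.lift_eq]
          show algebraMap (A ⊗[R] D) L (algebraMap R A r ⊗ₜ 1) = _
          rw [← Algebra.TensorProduct.algebraMap_apply, ← IsScalarTower.algebraMap_apply] }
    let ψ : A' ⊗[R] D →ₐ[R] L := Algebra.TensorProduct.lift l
      ((IsScalarTower.toAlgHom R (A ⊗[R] D) L).comp Algebra.TensorProduct.includeRight) fun _ _ => Commute.all _ _
    have e : ψ.comp φ = IsScalarTower.toAlgHom R (A ⊗[R] D) L := by
      refine Algebra.TensorProduct.ext' fun a d => ?_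
      show ψ (φ (a ⊗ₜ d)) = _
      simp only [φ, ψ, Algebra.TensorProduct.map_tmul, Algebra.TensorProduct.lift_tmul, AlgHom.id_apply]
      show IsLocalization.Away.lift (x := s) hj (algebraMap A A' a) * _ = _
      rw [IsLocalization.Away.lift_eq]
      show algebraMap (A ⊗[R] D) L (a ⊗ₜ 1) * algebraMap (A ⊗[R] D) L (1 ⊗ₜ d) = _
      rw [← map_mul, Algebra.TensorProduct.tmul_mul_tmul, mul_one, one_mul]
      rfl
    have h2 : algebraMap (A ⊗[R] D) L x = algebraMap (A ⊗[R] D) L y := by
      have := congrArg ψ hxy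
      rw [hφ, hφ, ← AlgHom.comp_apply, ← AlgHom.comp_apply, e] at this
      exact this
    exact IsLocalization.exists_of_eq h2

end

end Groth.Agent.Patch17
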