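import Groth.Agent.Patch17.Scale
import Groth.Agent.Patch17.Fam
import Groth.Agent.Patch17.Rings
import Mathlib.AlgebraicGeometry.Morphisms.FlatDescent

/-!
# Extending families of automorphisms of a torsor after scaling
-/

set_option autoImplicit false
set_option linter.style.haveILetI false

universe u

open CategoryTheory MonoidalCategory CartesianMonoidalCategory MonObj AlgebraicGeometry
open scoped TensorProduct

namespace Groth.Agent.Patch17

open Groth.Agent.G0Patch (sp)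
open Groth.Agent.GITLib

noncomputable section

variable {R : Type u} [CommRing R]


/-- A locally trivial scheme over an affine base has a section over an affine fpqc cover. -/
theorem exists_affine_trivialisation {P : Over (Spec (CommRingCat.of R))} (h : NonAbH1.IsLocallyTrivialFor Scheme.fppfPrecoverage P) :
    ∃ (R' : Type u) (_ : CommRing R') (_ : Algebra R R'),
      NonAbH1.IsLocallyTrivialFor Scheme.fpqcPrecoverage (SA (R := R) R') ∧
        Nonempty (SA (R := R) R' ⟶ P) := by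
  classical
  obtain ⟨Rc, hRc, hs⟩ := h
  have hloc : ∀ x : (Spec (CommRingCat.of R)), ∃ (V : Scheme.{u}) (g : V ⟶ (Spec (CommRingCat.of R))) (σ : V ⟶ P.left),
      IsAffine V ∧ Flat g ∧ LocallyOfFinitePresentation g ∧ σ ≫ P.hom = g ∧ x ∈ Set.range g.base := by
    intro x
    obtain ⟨S', f, hf, y, hy⟩ := hRc.1 x
    rcases hf with @⟨T', g, hg⟩
    obtain ⟨hfl, hfp⟩ := hRc.2 hg
    obtain ⟨_, ⟨(W : T'.Opens), hW, rfl⟩, hyW, -⟩ :=
      T'.isBasis_affineOpens.exists_subset_of_mem_open (Set.mem_univ y) isOpen_univ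
    obtain ⟨σ, hσ⟩ := hs g hg
    haveI : IsAffine W.toScheme := hW
    refine ⟨W.toScheme, W.ι ≫ g, W.ι ≫ σ, inferInstance, inferInstance, inferInstance, by rw [Category.assoc, hσ],
      ⟨⟨y, hyW⟩, ?_⟩⟩
    rw [Scheme.Hom.comp_apply]
    exact hy
  choose V g σ hV hfl hfp hσ hx using hloc
  have hopen : ∀ x, IsOpen (Set.range (g x).base) := fun x => by
    haveI := hfl x
    haveI := hfp x
    exact (g x).isOpenMap.isOpen_range
  obtain ⟨t, ht⟩ := (isCompact_univ (X := ↥(Spec (CommRingCat.of R)))).elim_finite_subcover (fun x => Set.range (g x).base) hopen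
    fun x _ => Set.mem_iUnion.2 ⟨x, hx x⟩
  let F : (↑t : Set ↥(Spec (CommRingCat.of R))) → Scheme.{u} := fun x => V x.1
  haveI : ∀ i, IsAffine (F i) := fun i => hV i.1
  let X' : Scheme.{u} := ∐ F
  haveI : IsAffine X' := inferInstanceAs (IsAffine (∐ F))
  let q : X' ⟶ (Spec (CommRingCat.of R)) := Limits.Sigma.desc fun i => g i.1
  haveI : Flat q := IsZariskiLocalAtSource.sigmaDesc (P := @Flat) fun i => hfl i.1
  haveI : Surjective q := ⟨fun x => by
    obtain ⟨i, hi, v, hv⟩ : ∃ i ∈ t, x ∈ Set.range (g i).base := by simpa using ht (Set.mem_univ x)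
    exact ⟨(Limits.Sigma.ι F ⟨i, hi⟩).base v, by
      rw [← Scheme.Hom.comp_apply, Limits.Sigma.ι_desc]; exact hv⟩⟩
  let s : X' ⟶ P.left := Limits.Sigma.desc fun i => σ i.1
  have hsq : s ≫ P.hom = q := Limits.Sigma.hom_ext _ _ fun i => by simp [s, q, hσ]
  letI : Algebra R Γ(X', ⊤) := (Spec.preimage (X'.isoSpec.inv ≫ q)).hom.toAlgebra
  have hq : (SA (R := R) Γ(X', ⊤)).hom = X'.isoSpec.inv ≫ q := Spec.map_preimage _
  refine ⟨Γ(X', ⊤), inferInstance, inferInstance, ?_, ⟨Over.homMk (X'.isoSpec.inv ≫ s) ?_⟩⟩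
  · haveI : Flat (SA (R := R) Γ(X', ⊤)).hom := by rw [hq]; infer_instance
    haveI : Surjective (SA (R := R) Γ(X', ⊤)).hom := by rw [hq]; infer_instance
    haveI : QuasiCompact (SA (R := R) Γ(X', ⊤)).hom := by show QuasiCompact (Spec.map _); infer_instance
    refine ⟨Presieve.singleton (SA (R := R) Γ(X', ⊤)).hom,
      Scheme.Hom.singleton_mem_fpqcPrecoverage _, ?_⟩
    rintro _ _ ⟨⟩
    exact ⟨𝟙 _, Category.id_comp _⟩
  · show (X'.isoSpec.inv ≫ s) ≫ P.hom = _
    rw [Category.assoc, hsq, hq]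

variable {G P₀ : Over (Spec (CommRingCat.of R))} [GrpObj G] {a₀ : AlgGrp.Action G P₀}
variable {A A' : Type u} [CommRing A] [Algebra R A] [CommRing A'] [Algebra R A'] [Algebra A A']
  [IsScalarTower R A A'] (n : Type u)

/-- Change of coefficients from `A` to its localisation. -/
abbrev locPt (A A' : Type u) [CommRing A] [Algebra R A] [CommRing A'] [Algebra R A'] [Algebra A A']
    [IsScalarTower R A A'] (n : Type u) :
    SA (R := R) (MvPolynomial n A') ⟶ SA (R := R) (MvPolynomial n A) :=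
  pt (MvPolynomial.mapAlgHom (IsScalarTower.toAlgHom R A A'))

/-- Scaling as an algebra map. -/
abbrev scaleAlg {A : Type u} [CommRing A] [Algebra R A] (n : Type u) (c : A) :
    MvPolynomial n A →ₐ[R] MvPolynomial n A :=
  (MvPolynomial.aeval fun i => MvPolynomial.C c * MvPolynomial.X i :
    MvPolynomial n A →ₐ[A] MvPolynomial n A).restrictScalars R

/-- The origin. -/
abbrev originPt (A : Type u) [CommRing A] [Algebra R A] (n : Type u) :
    SA (R := R) A ⟶ SA (R := R) (MvPolynomial n A) :=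
  pt ((MvPolynomial.aeval fun _ : n => (0 : A)).restrictScalars R)

theorem origin_eq (A : Type u) [CommRing A] [Algebra R A] (n : Type u) :
    ((MvPolynomial.aeval fun _ : n => (0 : A)).restrictScalars R : MvPolynomial n A →ₐ[R] A).toRingHom =
      MvPolynomial.constantCoeff :=
  MvPolynomial.ringHom_ext (fun a => by simp) fun i => by simp

theorem qD_locPt (D : Type u) [CommRing D] [Algebra R D] :
    pt (MvPolynomial.mapAlgHom
        (Algebra.TensorProduct.map (IsScalarTower.toAlgHom R A A') (AlgHom.id R D))) ≫ qD A D n =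
      qD A' D n ≫ locPt (R := R) A A' n ▷ SA (R := R) D := by
  rw [qD, qD, comp_lift, lift_whiskerRight, pt_comp, pt_comp, pt_comp]
  congr 2 <;> refine AlgHom.coe_ringHom_injective ?_
  · exact MvPolynomial.ringHom_ext (fun a => by simp [baseMap]) fun i => by simp [baseMap]
  · exact RingHom.ext fun d => by simp [constMap]

theorem qD_scale (D : Type u) [CommRing D] [Algebra R D] (c : A) :
    pt (scaleAlg (R := R) n (c ⊗ₜ[R] (1 : D))) ≫ qD A D n =
      qD A D n ≫ pt (scaleAlg (R := R) n c) ▷ SA (R := R) D := by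
  rw [qD, comp_lift, lift_whiskerRight, pt_comp, pt_comp, pt_comp]
  congr 2 <;> refine AlgHom.coe_ringHom_injective ?_
  · exact MvPolynomial.ringHom_ext (fun a => by simp [baseMap]) fun i => by simp [baseMap]
  · exact RingHom.ext fun d => by simp [constMap]

theorem qD_origin (D : Type u) [CommRing D] [Algebra R D] :
    originPt (R := R) (A ⊗[R] D) n ≫ qD A D n = prodHom ≫ originPt (R := R) A n ▷ SA (R := R) D := by
  rw [qD, prodHom, comp_lift, lift_whiskerRight, pt_comp, pt_comp, pt_comp]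
  congr 2 <;> refine AlgHom.coe_ringHom_injective ?_
  · exact MvPolynomial.ringHom_ext (fun a => by simp [baseMap]) fun i => by simp [baseMap]
  · exact RingHom.ext fun d => by simp [constMap]

theorem qD_change {D D' : Type u} [CommRing D] [Algebra R D] [CommRing D'] [Algebra R D'] (j : D →ₐ[R] D') :
    pt (MvPolynomial.mapAlgHom (Algebra.TensorProduct.map (AlgHom.id R A) j)) ≫ qD A D n =
      qD A D' n ≫ SA (R := R) (MvPolynomial n A) ◁ pt j := by
  rw [qD, qD, comp_lift, lift_whiskerLeft, pt_comp, pt_comp, pt_comp]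
  congr 2 <;> refine AlgHom.coe_ringHom_injective ?_
  · exact MvPolynomial.ringHom_ext (fun a => by simp [baseMap]) fun i => by simp [baseMap]
  · exact RingHom.ext fun d => by simp [constMap]

variable (s : A) [IsLocalization.Away s A']

include s in
/-- A family of automorphisms over `A[1/s][T]`, trivial at the origin, extends after scaling. -/
theorem exists_extend_aut (h₀ : NonAbH1.IsPseudoTorsorSch a₀) [LocallyOfFinitePresentation P₀.hom]
    {R' : Type u} [CommRing R'] [Algebra R R']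
    (hU : NonAbH1.IsLocallyTrivialFor Scheme.fpqcPrecoverage (SA (R := R) R')) (s₀ : SA (R := R) R' ⟶ P₀)
    (θ : SA (R := R) (MvPolynomial n A') ⊗ P₀ ⟶ P₀) (hθ : IsEquivFam a₀ a₀ θ)
    (hθ0 : originPt (R := R) A' n ▷ P₀ ≫ θ = snd (SA (R := R) A') P₀) :
    ∃ (N : ℕ) (η' : SA (R := R) (MvPolynomial n A) ⊗ P₀ ⟶ P₀), IsEquivFam a₀ a₀ η' ∧
      locPt (R := R) A A' n ▷ P₀ ≫ η' = pt (scaleAlg (R := R) n (algebraMap A A' s ^ N)) ▷ P₀ ≫ θ := by
  haveI : LocallyOfFiniteType P₀.hom := inferInstance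
  let φ₁ := Algebra.TensorProduct.map (IsScalarTower.toAlgHom R A A') (AlgHom.id R R')
  letI : Algebra (A ⊗[R] R') (A' ⊗[R] R') := φ₁.toRingHom.toAlgebra
  haveI : IsLocalization.Away (s ⊗ₜ[R] (1 : R')) (A' ⊗[R] R') := isAway_tensor _ s
  haveI : IsScalarTower R (A ⊗[R] R') (A' ⊗[R] R') := IsScalarTower.of_algebraMap_eq' φ₁.comp_algebraMap.symm
  let h : SA (R := R) (MvPolynomial n (A' ⊗[R] R')) ⟶ P₀ := qD A' R' n ≫ _ ◁ s₀ ≫ θ
  let hz : SA (R := R) (A ⊗[R] R') ⟶ P₀ := pt Algebra.TensorProduct.includeRight ≫ s₀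
  have hc : originPt (R := R) (A' ⊗[R] R') n ≫ h = pt (IsScalarTower.toAlgHom R (A ⊗[R] R') (A' ⊗[R] R')) ≫ hz := by
    simp only [h, hz]
    rw [reassoc_of% qD_origin, ← whisker_exchange_assoc, hθ0, whiskerLeft_snd, prodHom, lift_snd_assoc,
      pt_comp_assoc]
    refine congrArg (· ≫ s₀) (congrArg pt (AlgHom.ext fun d => ?_))
    show (1 : A') ⊗ₜ[R] d = φ₁ ((1 : A) ⊗ₜ d)
    simp [φ₁]
  obtain ⟨N, g, hgf, hg1, hg0⟩ := exists_extend_scaled (s ⊗ₜ[R] (1 : R')) (A' ⊗[R] R') (n := n) P₀.hom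
    (SA (R := R) (A ⊗[R] R')).hom h.left hz.left
    (by
      rw [Over.w h]
      show Spec.map _ = Spec.map _ ≫ Spec.map _
      rw [← Spec.map_comp, ← CommRingCat.ofHom_comp]
      congr 2
      exact RingHom.ext fun r => by
        show algebraMap R (MvPolynomial n (A' ⊗[R] R')) r = MvPolynomial.C (φ₁ (algebraMap R _ r))
        rw [φ₁.commutes]; rfl)
    (Over.w hz) (by
      have := congrArg CommaMorphism.left hc
      simp only [Over.comp_left, pt_left, origin_eq] at this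
      exact this)
  let go : SA (R := R) (MvPolynomial n (A ⊗[R] R')) ⟶ P₀ := Over.homMk g (by
    rw [hgf]
    show Spec.map _ ≫ Spec.map _ = Spec.map _
    rw [← Spec.map_comp, ← CommRingCat.ofHom_comp]
    rfl)
  let g' : SA (R := R) (MvPolynomial n A) ⊗ SA (R := R) R' ⟶ P₀ := inv (qD A R' n) ≫ go
  have hg'1 : locPt (R := R) A A' n ▷ SA (R := R) R' ≫ g' =
      pt (scaleAlg (R := R) n (algebraMap A A' s ^ N)) ▷ SA (R := R) R' ≫ _ ◁ s₀ ≫ θ := by
    rw [← cancel_epi (qD A' R' n), ← reassoc_of% qD_locPt, ← reassoc_of% qD_scale]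
    simp only [g', IsIso.hom_inv_id_assoc]
    refine Over.OverMorphism.ext ?_
    refine hg1.trans ?_
    show sp (scale (φ₁ (s ⊗ₜ 1) ^ N)) ≫ h.left = sp (scale ((algebraMap A A' s ^ N) ⊗ₜ[R] (1 : R'))) ≫ h.left
    rw [show φ₁ (s ⊗ₜ[R] (1 : R')) ^ N = (algebraMap A A' s ^ N) ⊗ₜ[R] (1 : R') by
      simp [φ₁, Algebra.TensorProduct.tmul_pow]]
  have hg'0 : originPt (R := R) A n ▷ SA (R := R) R' ≫ g' = snd _ _ ≫ s₀ := by
    rw [← cancel_epi (prodHom (R := R) (A := A) (B := R')), ← reassoc_of% qD_origin]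
    simp only [g', IsIso.hom_inv_id_assoc]
    rw [prodHom, lift_snd_assoc]
    refine Over.OverMorphism.ext ?_
    simp only [Over.comp_left, pt_left, origin_eq]
    exact hg0
  -- the cocycle identity after further scaling
  let D := R' ⊗[R] R'
  let j₁ : R' →ₐ[R] D := Algebra.TensorProduct.includeLeft
  let j₂ : R' →ₐ[R] D := Algebra.TensorProduct.includeRight
  obtain ⟨γ, hγ, -⟩ := existsUnique_diff h₀ (pt j₁ ≫ s₀) (pt j₂ ≫ s₀)
  let φ₂ := Algebra.TensorProduct.map (IsScalarTower.toAlgHom R A A') (AlgHom.id R D)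
  letI : Algebra (A ⊗[R] D) (A' ⊗[R] D) := φ₂.toRingHom.toAlgebra
  haveI : IsLocalization.Away (s ⊗ₜ[R] (1 : D)) (A' ⊗[R] D) := isAway_tensor _ s
  let m₁ : SA (R := R) (MvPolynomial n (A ⊗[R] D)) ⟶ P₀ :=
    lift (qD A D n ≫ snd _ _ ≫ γ) (qD A D n ≫ SA (R := R) (MvPolynomial n A) ◁ pt j₁ ≫ g') ≫ a₀.act
  let m₂ : SA (R := R) (MvPolynomial n (A ⊗[R] D)) ⟶ P₀ := qD A D n ≫ SA (R := R) (MvPolynomial n A) ◁ pt j₂ ≫ g'
  let lD : SA (R := R) (MvPolynomial n (A' ⊗[R] D)) ⟶ SA (R := R) (MvPolynomial n (A ⊗[R] D)) :=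
    pt (MvPolynomial.mapAlgHom φ₂)
  have hm : lD ≫ m₁ = lD ≫ m₂ := by
    simp only [lD, m₁, m₂, comp_lift_assoc]
    rw [reassoc_of% (qD_locPt (R := R) (A := A) (A' := A') n D), reassoc_of% (qD_locPt (R := R) (A := A) (A' := A') n D),
      reassoc_of% (qD_locPt (R := R) (A := A) (A' := A') n D)]
    have hj : ∀ (j : R' →ₐ[R] D), locPt (R := R) A A' n ▷ SA (R := R) D ≫
        SA (R := R) (MvPolynomial n A) ◁ pt j ≫ g' =
        pt (scaleAlg (R := R) n (algebraMap A A' s ^ N)) ▷ SA (R := R) D ≫ _ ◁ pt j ≫ _ ◁ s₀ ≫ θ := fun j => by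
      rw [← whisker_exchange_assoc, hg'1, whisker_exchange_assoc]
    rw [hj, hj, whiskerRight_snd_assoc]
    rw [← comp_lift_assoc]
    refine congrArg (qD A' D n ≫ ·) ?_
    let t := fst (SA (R := R) (MvPolynomial n A')) (SA (R := R) D) ≫ pt (scaleAlg (R := R) n (algebraMap A A' s ^ N))
    let d := snd (SA (R := R) (MvPolynomial n A')) (SA (R := R) D)
    have key : ∀ (j : R' →ₐ[R] D), pt (scaleAlg (R := R) n (algebraMap A A' s ^ N)) ▷ SA (R := R) D ≫
        _ ◁ pt j ≫ _ ◁ s₀ ≫ θ = lift t (d ≫ pt j ≫ s₀) ≫ θ := by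
      intro j
      rw [show lift t (d ≫ pt j ≫ s₀) = pt (scaleAlg (R := R) n (algebraMap A A' s ^ N)) ▷ SA (R := R) D ≫
        _ ◁ pt j ≫ _ ◁ s₀ from CartesianMonoidalCategory.hom_ext _ _ (by simp [t]) (by simp [d])]
      simp only [Category.assoc]
    rw [key, key, ← hθ t (d ≫ γ) (d ≫ pt j₁ ≫ s₀), ← comp_lift_assoc]
    rw [show lift γ (pt j₁ ≫ s₀) ≫ a₀.act = pt j₂ ≫ s₀ from hγ]
  have hm0 : originPt (R := R) (A ⊗[R] D) n ≫ m₁ = originPt (R := R) (A ⊗[R] D) n ≫ m₂ := by
    simp only [m₁, m₂, comp_lift_assoc]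
    rw [reassoc_of% (qD_origin (R := R) (A := A) n D), reassoc_of% (qD_origin (R := R) (A := A) n D),
      reassoc_of% (qD_origin (R := R) (A := A) n D)]
    rw [← whisker_exchange_assoc, hg'0, whiskerRight_snd_assoc, ← whisker_exchange_assoc, hg'0,
      whiskerLeft_snd_assoc, whiskerLeft_snd_assoc]
    rw [← comp_lift_assoc]
    refine congrArg (prodHom ≫ ·) ?_
    rw [← comp_lift_assoc]
    exact congrArg (snd _ _ ≫ ·) hγ
  obtain ⟨M, hM⟩ := exists_scale_eq (s ⊗ₜ[R] (1 : D)) (A' ⊗[R] D) (n := n) P₀.hom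
    (SA (R := R) (A ⊗[R] D)).hom m₁.left m₂.left
    (by
      rw [Over.w m₁]
      show Spec.map _ = Spec.map _ ≫ Spec.map _
      rw [← Spec.map_comp, ← CommRingCat.ofHom_comp]
      rfl)
    (by
      rw [Over.w m₂]
      show Spec.map _ = Spec.map _ ≫ Spec.map _
      rw [← Spec.map_comp, ← CommRingCat.ofHom_comp]
      rfl)
    (congrArg CommaMorphism.left hm) (by
      have := congrArg CommaMorphism.left hm0
      simp only [Over.comp_left, pt_left, origin_eq] at this
      exact this)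
  let σ := pt (scaleAlg (R := R) n (s ^ M))
  have hscaled : qD A D n ≫ σ ▷ SA (R := R) D ≫
      lift (snd _ _ ≫ γ) (SA (R := R) (MvPolynomial n A) ◁ pt j₁ ≫ g') ≫ a₀.act = qD A D n ≫ σ ▷ SA (R := R) D ≫ SA (R := R) (MvPolynomial n A) ◁ pt j₂ ≫ g' := by
    rw [← reassoc_of% qD_scale, ← reassoc_of% qD_scale]
    simp only [m₁, m₂, ← comp_lift_assoc (qD A D n)] at hM ⊢
    refine Over.OverMorphism.ext ?_
    rw [show ((s ^ M) ⊗ₜ[R] (1 : D)) = (s ⊗ₜ[R] (1 : D)) ^ M by rw [Algebra.TensorProduct.tmul_pow, one_pow]]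
    exact hM
  have hscaled' := (cancel_epi (qD A D n)).1 hscaled
  obtain ⟨η', hη', hη's⟩ := exists_fam (aE := a₀) h₀ hU s₀ (σ ▷ SA (R := R) R' ≫ g') (by
    intro W t w w' d hd
    let ww : W ⟶ SA (R := R) D := lift w w' ≫ inv prodHom
    have h1 : ww ≫ pt j₁ = w := by
      have : ww ≫ prodHom = lift w w' := by simp [ww]
      have := congrArg (· ≫ fst _ _) this
      simpa [prodHom, j₁] using this
    have h2 : ww ≫ pt j₂ = w' := by
      have : ww ≫ prodHom = lift w w' := by simp [ww]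
      have := congrArg (· ≫ snd _ _) this
      simpa [prodHom, j₂] using this
    have hdd : d = ww ≫ γ := (existsUnique_diff h₀ (w ≫ s₀) (w' ≫ s₀)).unique hd (by
      have := congrArg (ww ≫ ·) hγ
      simp only [comp_lift_assoc, reassoc_of% h1, reassoc_of% h2] at this
      exact this)
    have := congrArg (lift t ww ≫ ·) hscaled'
    simp only [comp_lift_assoc, lift_whiskerRight_assoc, lift_whiskerLeft_assoc, lift_snd_assoc, h1, h2] at this
    simp only [lift_whiskerRight_assoc]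
    rw [hdd]
    exact this)
  refine ⟨M + N, η', hη', IsEquivFam.ext h₀ hU s₀ (hη'.whiskerRight _) (hθ.whiskerRight _) ?_⟩
  rw [whisker_exchange_assoc, hη's, whisker_exchange_assoc, ← comp_whiskerRight_assoc, pow_add]
  rw [show locPt (R := R) A A' n ≫ σ = pt (scaleAlg (R := R) n (algebraMap A A' s ^ M)) ≫ locPt A A' n by
    simp only [σ, locPt, pt_comp]
    congr 1
    refine AlgHom.coe_ringHom_injective ?_
    exact MvPolynomial.ringHom_ext (fun a => by simp) fun i => by simp]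
  rw [comp_whiskerRight_assoc, hg'1, ← comp_whiskerRight_assoc, pt_comp]
  congr 3
  refine AlgHom.coe_ringHom_injective ?_
  exact MvPolynomial.ringHom_ext (fun a => by simp) fun i => by simp [_root_.mul_comm, _root_.mul_assoc, mul_left_comm]

end

end Groth.Agent.Patch17
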