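import Groth.Agent.Patch17.Tot
import Groth.Agent.GITLib.TorsorSchMore

/-!
# Projections, equivariant morphisms, and the fibre over a section
-/

set_option autoImplicit false

universe u

open CategoryTheory CategoryTheory.Limits MonoidalCategory CartesianMonoidalCategory MonObj AlgebraicGeometry

namespace Groth.Agent.Patch17

noncomputable section

variable {S B B' : Scheme.{u}} {k : B ⟶ S} {q : B' ⟶ B} {d : B' ⟶ S} {G : Over S} [GrpObj G]

/-- The projection from a base change. -/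
def totPrj (h : q ≫ k = d) (X : Over B) : tot d (Red.bc q X) ⟶ tot k X :=
  Over.homMk (pullback.fst X.hom q) (by
    show pullback.fst X.hom q ≫ X.hom ≫ k = (Red.bc q X).hom ≫ d
    rw [pullback.condition_assoc, h]
    rfl)

@[reassoc] theorem totπ_prj (h : q ≫ k = d) (X : Over B) :
    totPrj h X ≫ totπ k X = totπ d (Red.bc q X) ≫ (Over.homMk q h : Over.mk d ⟶ Over.mk k) :=
  Over.OverMorphism.ext pullback.condition

theorem bc_hom_ext_tot (h : q ≫ k = d) {X : Over B} {V : Over S} {x y : V ⟶ tot d (Red.bc q X)}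
    (h₁ : x ≫ totPrj h X = y ≫ totPrj h X) (h₂ : x ≫ totπ d _ = y ≫ totπ d _) : x = y :=
  Over.OverMorphism.ext (pullback.hom_ext (congrArg CommaMorphism.left h₁) (congrArg CommaMorphism.left h₂))

/-- The projection is equivariant. -/
theorem actPt_prj (h : q ≫ k = d) {X : Over B} (a : AlgGrp.Action (Red.bc k G) X) {V : Over S} (g : V ⟶ G)
    (x : V ⟶ tot d (Red.bc q X)) :
    actPt ((a.bc q).restrict (ActBC.bcCompIso q k G h).inv) g x ≫ totPrj h X = actPt a g (x ≫ totPrj h X) := by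
  refine Over.OverMorphism.ext ?_
  let c : (Over.map q).obj (ptB x) ⟶ ptB (x ≫ totPrj h X) := Over.homMk (𝟙 V.left) (by
    show 𝟙 _ ≫ (x.left ≫ pullback.fst X.hom q) ≫ X.hom = (x.left ≫ (Red.bc q X).hom) ≫ q
    rw [Category.id_comp, Category.assoc, Category.assoc, pullback.condition]
    rfl)
  have e1 : ptHat x = (Over.mapPullbackAdj q).homEquiv _ _ (c ≫ ptHat (x ≫ totPrj h X)) := by
    refine hom_bc_ext ?_
    rw [homEquiv_left_fst]
    exact (Category.id_comp _).symm
  have e2 : grpHat g x ≫ (ActBC.bcCompIso q k G h).inv =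
      (Over.mapPullbackAdj q).homEquiv _ _ (c ≫ grpHat g (x ≫ totPrj h X)) := by
    refine hom_bc_ext ?_
    rw [homEquiv_left_fst]
    refine pullback.hom_ext ?_ ?_
    · rw [Over.comp_left, Category.assoc, Category.assoc, Over.comp_left, Category.assoc, grpHat_left_fst]
      have := ActBC.bcCompIso_hom_left_fst q k G h
      rw [← this, ← Category.assoc (ActBC.bcCompIso q k G h).inv.left, ← Over.comp_left, Iso.inv_hom_id]
      simp [c]
    · have hw := Over.w (c ≫ grpHat g (x ≫ totPrj h X))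
      refine Eq.trans ?_ hw.symm
      rw [Over.comp_left, Category.assoc, Category.assoc]
      show (grpHat g x).left ≫ (ActBC.bcCompIso q k G h).inv.left ≫ pullback.fst (Red.bc k G).hom q ≫ (Red.bc k G).hom = _
      rw [pullback.condition, ← Category.assoc (ActBC.bcCompIso q k G h).inv.left]
      rw [show (ActBC.bcCompIso q k G h).inv.left ≫ pullback.snd (Red.bc k G).hom q = (Red.bc d G).hom from
        Over.w (ActBC.bcCompIso q k G h).inv, ← Category.assoc, Over.w (grpHat g x)]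
      rfl
  show (lift (grpHat g x) (ptHat x) ≫ ((a.bc q).restrict (ActBC.bcCompIso q k G h).inv).act).left ≫
      pullback.fst X.hom q = (lift (grpHat g (x ≫ totPrj h X)) (ptHat (x ≫ totPrj h X)) ≫ a.act).left
  rw [AlgGrp.Action.lift_restrict_act, e1, e2, AlgGrp.Action.lift_homEquiv_bc_act]
  refine (homEquiv_left_fst _).trans ?_
  rw [← comp_lift_assoc]
  exact Category.id_comp _

/-- The projection from a base change. -/
def bcPrj (j : B ⟶ S) (P : Over S) : tot j (Red.bc j P) ⟶ P :=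
  Over.homMk (pullback.fst P.hom j) pullback.condition

/-- The projection from a base change of an action of `G` is equivariant. -/
theorem actPt_prj₀ {j : B ⟶ S} {P : Over S} (a : AlgGrp.Action G P) {V : Over S} (g : V ⟶ G)
    (x : V ⟶ tot j (Red.bc j P)) :
    actPt (a.bc j) g x ≫ bcPrj j P = lift g (x ≫ bcPrj j P) ≫ a.act := by
  have e1 : ptHat x = (Over.mapPullbackAdj j).homEquiv _ P (ptE x ≫ x ≫ bcPrj j P) := by
    refine hom_bc_ext ?_
    rw [homEquiv_left_fst]
    exact (Category.id_comp _).symm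
  refine Over.OverMorphism.ext ?_
  show (lift (grpHat g x) (ptHat x) ≫ (a.bc j).act).left ≫ pullback.fst P.hom j = _
  rw [e1, grpHat, AlgGrp.Action.lift_homEquiv_bc_act, ← comp_lift_assoc]
  exact (homEquiv_left_fst _).trans (Category.id_comp _)

variable {X X' : Over B}

/-- An equivariant morphism gives an equivariant morphism of total spaces. -/
theorem actPt_map {a : AlgGrp.Action (Red.bc k G) X} {a' : AlgGrp.Action (Red.bc k G) X'} (φ : X ⟶ X')
    (hφ : a.act ≫ φ = (Red.bc k G) ◁ φ ≫ a'.act) {V : Over S} (g : V ⟶ G) (x : V ⟶ tot k X) :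
    actPt a g x ≫ (Over.map k).map φ = actPt a' g (x ≫ (Over.map k).map φ) := by
  refine Over.OverMorphism.ext ?_
  let c : ptB x ⟶ ptB (x ≫ (Over.map k).map φ) := Over.homMk (𝟙 V.left) (by
    show 𝟙 _ ≫ (x.left ≫ φ.left) ≫ X'.hom = x.left ≫ X.hom
    rw [Category.id_comp, Category.assoc, Over.w φ])
  have e1 : c ≫ grpHat g (x ≫ (Over.map k).map φ) = grpHat g x := by
    refine hom_bc_ext ?_
    rw [grpHat_left_fst, Over.comp_left, Category.assoc, grpHat_left_fst]
    exact Category.id_comp _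
  have e2 : c ≫ ptHat (x ≫ (Over.map k).map φ) = ptHat x ≫ φ := Over.OverMorphism.ext (Category.id_comp _)
  show ((lift (grpHat g x) (ptHat x) ≫ a.act) ≫ φ).left =
    (lift (grpHat g (x ≫ (Over.map k).map φ)) (ptHat (x ≫ (Over.map k).map φ)) ≫ a'.act).left
  rw [Category.assoc, hφ, lift_whiskerLeft_assoc, ← e2, ← e1, ← comp_lift_assoc]
  exact Category.id_comp _

/-- A morphism whose total morphism is equivariant is equivariant. -/
theorem equivariant_of_tot {a : AlgGrp.Action (Red.bc k G) X} {a' : AlgGrp.Action (Red.bc k G) X'} (φ : X ⟶ X')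
    (hφ : ∀ {V : Over S} (g : V ⟶ G) (x : V ⟶ tot k X),
      actPt a g x ≫ (Over.map k).map φ = actPt a' g (x ≫ (Over.map k).map φ)) :
    a.act ≫ φ = (Red.bc k G) ◁ φ ≫ a'.act := by
  let V : Over B := Red.bc k G ⊗ X
  let x : (Over.map k).obj V ⟶ tot k X := (Over.map k).map (snd _ X)
  let g : (Over.map k).obj V ⟶ G := ((Over.mapPullbackAdj k).homEquiv _ _).symm (fst _ X)
  let c : V ⟶ ptB x := Over.homMk (𝟙 V.left) (by
    show 𝟙 _ ≫ (snd (Red.bc k G) X).left ≫ X.hom = V.hom
    rw [Category.id_comp]; exact Over.w (snd (Red.bc k G) X))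
  let c' : V ⟶ ptB (x ≫ (Over.map k).map φ) := Over.homMk (𝟙 V.left) (by
    show 𝟙 _ ≫ ((snd (Red.bc k G) X).left ≫ φ.left) ≫ X'.hom = V.hom
    rw [Category.id_comp, Category.assoc, Over.w φ]; exact Over.w (snd (Red.bc k G) X))
  have e : ∀ {Y : Over B} (y : (Over.map k).obj V ⟶ tot k Y) (c : V ⟶ ptB y), c.left = 𝟙 _ →
      c ≫ grpHat g y = fst (Red.bc k G) X := by
    intro Y y c hc
    refine hom_bc_ext ?_
    rw [Over.comp_left, Category.assoc, grpHat_left_fst, hc]
    refine (Category.id_comp _).trans ?_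
    rw [← homEquiv_left_fst g]
    simp [g]
  have e2 : c ≫ ptHat x = snd _ X := Over.OverMorphism.ext (Category.id_comp _)
  have e2' : c' ≫ ptHat (x ≫ (Over.map k).map φ) = snd _ X ≫ φ := Over.OverMorphism.ext (Category.id_comp _)
  refine Over.OverMorphism.ext ?_
  have h := congrArg CommaMorphism.left (hφ g x)
  refine Eq.trans ?_ (Eq.trans h ?_)
  · show (a.act ≫ φ).left = ((lift (grpHat g x) (ptHat x) ≫ a.act) ≫ φ).left
    have := congrArg (fun z => z ≫ a.act ≫ φ) (show lift (fst _ X) (snd _ X) = c ≫ lift (grpHat g x) (ptHat x) by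
      rw [comp_lift, e x c rfl, e2])
    simp only [lift_fst_snd, Category.id_comp] at this
    rw [this]
    simp only [Category.assoc]
    exact Category.id_comp _
  · show (lift (grpHat g (x ≫ (Over.map k).map φ)) (ptHat (x ≫ (Over.map k).map φ)) ≫ a'.act).left =
      (Red.bc k G ◁ φ ≫ a'.act).left
    have := congrArg (fun z => z ≫ a'.act)
      (show lift (fst _ X) (snd _ X ≫ φ) = c' ≫ lift (grpHat g (x ≫ (Over.map k).map φ)) (ptHat (x ≫ (Over.map k).map φ)) by
        rw [comp_lift, e _ c' rfl, e2'])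
    rw [show Red.bc k G ◁ φ = lift (fst _ X) (snd _ X ≫ φ) from
      CartesianMonoidalCategory.hom_ext _ _ (by simp) (by simp), this, Category.assoc]
    exact (Category.id_comp _).symm

theorem isPseudoTorsor_restrict {G' : Over B} {G₁ : Over B} [GrpObj G'] [GrpObj G₁] (φ : G₁ ⟶ G') [IsMonHom φ]
    [IsIso φ] {a : AlgGrp.Action G' X} (h : NonAbH1.IsPseudoTorsorSch a) :
    NonAbH1.IsPseudoTorsorSch (a.restrict φ) := by
  have : IsIso (lift a.act (snd G' X)) := h
  show IsIso (lift (a.restrict φ).act (snd G₁ X))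
  rw [show lift (a.restrict φ).act (snd G₁ X) = φ ▷ X ≫ lift a.act (snd G' X) by
    rw [comp_lift, whiskerRight_snd]; rfl]
  infer_instance

section Fibre

variable {E : Over S} {aE : AlgGrp.Action G E} {Bo : Over S} {π : E ⟶ Bo} (hE : IsRelTorsor aE π) {z : 𝟙_ (Over S) ⟶ Bo}
  {P₀ : Over S} {i : P₀ ⟶ E} (hi : IsPullback i (toUnit P₀) π z)

/-- The action on the fibre over a section. -/
def fibreAct : AlgGrp.Action G P₀ where
  act := hi.lift (G ◁ i ≫ aE.act) (toUnit _) (by
    rw [Category.assoc, hE.inv, whiskerLeft_snd_assoc, hi.w, comp_toUnit_assoc])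
  one_act := hi.hom_ext (by
    rw [Category.assoc, IsPullback.lift_fst, ← whisker_exchange_assoc, aE.one_act, leftUnitor_hom, leftUnitor_hom,
      whiskerLeft_snd]) (toUnit_unique _ _)
  mul_act := by
    apply AlgGrp.Action.hom_ext_lift₃
    intro T g h x
    simp only [lift_whiskerRight_assoc, lift_lift_associator_hom_assoc, lift_whiskerLeft_assoc]
    refine hi.hom_ext ?_ (toUnit_unique _ _)
    simp only [Category.assoc, IsPullback.lift_fst, IsPullback.lift_fst_assoc, lift_whiskerLeft_assoc]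
    rw [← Hom.mul_def, aE.lift_mul_act]

theorem fibreAct_i : (fibreAct hE hi).act ≫ i = G ◁ i ≫ aE.act := IsPullback.lift_fst ..

theorem isPseudoTorsor_fibre : NonAbH1.IsPseudoTorsorSch (fibreAct hE hi) := by
  have h : ∀ {T : Over S} (x y : T ⟶ P₀), ∃! g : T ⟶ G, lift g x ≫ (fibreAct hE hi).act = y := by
    intro T x y
    obtain ⟨g, hg, hu⟩ := hE.diff (x ≫ i) (y ≫ i) (by
      simp only [Category.assoc, hi.w, comp_toUnit_assoc])
    have e : ∀ g' : T ⟶ G, (lift g' x ≫ (fibreAct hE hi).act) ≫ i = lift g' (x ≫ i) ≫ aE.act := fun g' => by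
      rw [Category.assoc, fibreAct_i, lift_whiskerLeft_assoc]
    refine ⟨g, hi.hom_ext (by rw [e]; exact hg) (toUnit_unique _ _), fun g' hg' => hu g' ?_⟩
    show lift g' (x ≫ i) ≫ aE.act = y ≫ i
    rw [← e, show lift g' x ≫ (fibreAct hE hi).act = y from hg']
  obtain ⟨γ, hγ, -⟩ := h (snd P₀ P₀) (fst P₀ P₀)
  refine ⟨lift γ (snd P₀ P₀), ?_, ?_⟩
  · refine CartesianMonoidalCategory.hom_ext _ _ ?_ (by simp)
    rw [Category.assoc, lift_fst, Category.id_comp]
    refine (h (snd G P₀) (fibreAct hE hi).act).unique ?_ (by rw [lift_fst_snd, Category.id_comp])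
    have := congrArg (lift (fibreAct hE hi).act (snd G P₀) ≫ ·) hγ
    simp only [comp_lift_assoc, lift_fst, lift_snd] at this
    exact this
  · refine CartesianMonoidalCategory.hom_ext _ _ ?_ (by simp)
    rw [Category.assoc, lift_fst, Category.id_comp]
    exact hγ

end Fibre

/-- A morphism of relative torsors with local points is an isomorphism. -/
theorem isIso_relTorsor {E E' : Over S} {aE : AlgGrp.Action G E} {aE' : AlgGrp.Action G E'} {Bo : Over S}
    {π : E ⟶ Bo} {π' : E' ⟶ Bo} (hE : IsRelTorsor aE π) (hE' : IsRelTorsor aE' π')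
    (ρ : E ⟶ E') (hρπ : ρ ≫ π' = π)
    (hρ : ∀ {V : Over S} (g : V ⟶ G) (x : V ⟶ E), (lift g x ≫ aE.act) ≫ ρ = lift g (x ≫ ρ) ≫ aE'.act)
    {Sv : Sieve E'} (hSv : Sv ∈ GITLib.Jq S E')
    (hs : ∀ ⦃V : Over S⦄ (f : V ⟶ E'), Sv.arrows f → ∃ x : V ⟶ E, x ≫ π = f ≫ π') : IsIso ρ := by
  have : Mono ρ := ⟨fun {V} x y e => by
    obtain ⟨g, hg, -⟩ := hE.diff x y (by rw [← hρπ, reassoc_of% e])
    have : g = 1 := (hE'.diff (x ≫ ρ) (x ≫ ρ) rfl).unique (by
      show lift g (x ≫ ρ) ≫ aE'.act = x ≫ ρ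
      rw [← hρ, show lift g x ≫ aE.act = y from hg, e]) (aE'.lift_one_act _)
    rw [← hg, this, aE.lift_one_act]⟩
  refine GITLib.isIso_of_mono_of_lifts_q ρ hSv fun V f hf => ?_
  obtain ⟨x, hx⟩ := hs f hf
  obtain ⟨g, hg, -⟩ := hE'.diff (x ≫ ρ) f (by rw [Category.assoc, hρπ, hx])
  exact ⟨lift g x ≫ aE.act, by rw [hρ]; exact hg⟩

end

end Groth.Agent.Patch17
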