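import Groth.Agent.Patch17.Main
import Groth.Agent.Patch17.Descend
import Mathlib.AlgebraicGeometry.AffineSpace

/-!
# The ideal of elements over which a torsor on affine space descends
-/

set_option autoImplicit false
set_option linter.style.haveILetI false

universe u

open CategoryTheory CategoryTheory.Limits MonoidalCategory CartesianMonoidalCategory MonObj AlgebraicGeometry
open scoped TensorProduct

namespace Groth.Agent.Patch17

open Groth.Agent.GITLib

noncomputable section

/-- Coefficient extension `A[T] ← A ⊗ R[T]` as a morphism to the product. -/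
def cA {R : Type u} [CommRing R] (A : Type u) [CommRing A] [Algebra R A] (n : Type u) :
    SA (R := R) (MvPolynomial n A) ⟶ SA (R := R) (MvPolynomial n R) ⊗ SA (R := R) A :=
  lift (chPt A n) (pt (IsScalarTower.toAlgHom R A (MvPolynomial n A)))

instance isIso_cA {R : Type u} [CommRing R] (A : Type u) [CommRing A] [Algebra R A] (n : Type u) :
    IsIso (cA (R := R) A n) := by
  let m : MvPolynomial n (R ⊗[R] A) →ₐ[R] MvPolynomial n A :=
    MvPolynomial.mapAlgHom (Algebra.TensorProduct.lid R A).toAlgHom
  let m' : MvPolynomial n A →ₐ[R] MvPolynomial n (R ⊗[R] A) :=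
    MvPolynomial.mapAlgHom (Algebra.TensorProduct.lid R A).symm.toAlgHom
  have h1 : m.comp m' = AlgHom.id R _ := AlgHom.coe_ringHom_injective
    (MvPolynomial.ringHom_ext (fun a => by simp [m, m']) fun i => by simp [m, m'])
  have h2 : m'.comp m = AlgHom.id R _ := AlgHom.coe_ringHom_injective
    (MvPolynomial.ringHom_ext (fun a => by simp [m, m']) fun i => by simp [m, m'])
  haveI : IsIso (pt (R := R) m) :=
    ⟨⟨(pt m' : SA (R := R) (MvPolynomial n (R ⊗[R] A)) ⟶ SA (R := R) (MvPolynomial n A)),
      by rw [pt_comp, h1, pt_id], by rw [pt_comp, h2, pt_id]⟩⟩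
  have e : cA (R := R) A n = pt m ≫ qD R A n := by
    rw [cA, qD, comp_lift, pt_comp, pt_comp]
    congr 1 <;> refine congrArg pt (AlgHom.coe_ringHom_injective ?_)
    · exact MvPolynomial.ringHom_ext (fun a => by simp [m, baseMap, ← MvPolynomial.algebraMap_eq]) fun i => by simp [m, baseMap]
    · exact RingHom.ext fun d => by simp [m, constMap]
  rw [e]
  infer_instance

variable {R : Type u} [CommRing R] {n : Type u} {B : Scheme.{u}} {k : B ⟶ Spec (CommRingCat.of R)}
  (β : Over.mk k ≅ SA (R := R) (MvPolynomial n R))
  {G : Over (Spec (CommRingCat.of R))} [GrpObj G]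
  (X : NonAbH1.TorsorSch (Red.bc k G) Scheme.fppfPrecoverage)

/-- The origin. -/
def originB : Spec (CommRingCat.of R) ⟶ B := (origin₀ R n ≫ β.inv).left

theorem originB_over : originB β ≫ k = 𝟙 _ := Over.w (origin₀ R n ≫ β.inv)

/-- `X` descends over `A`. -/
abbrev DescAlg (A : Type u) [CommRing A] [Algebra R A] : Prop :=
  DescFam k X (originB_over β) (Spec.map (CommRingCat.ofHom (algebraMap R A)))

theorem descAlg_iff (A : Type u) [CommRing A] [Algebra R A] :
    DescAlg β X A ↔ GoodR (zeroAct k X (originB_over β)) (totAct X.act) n (totπ k X.X ≫ β.hom) A := by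
  let e := cA (R := R) A n ≫ β.inv ▷ SA (R := R) A
  have he : e ≫ fst _ _ = chPt A n ≫ β.inv := by simp [e, cA]
  constructor
  · rintro ⟨f, hf, hfπ⟩
    refine ⟨_, hf.whiskerRight e, ?_⟩
    rw [Category.assoc, reassoc_of% hfπ, whiskerRight_fst_assoc, reassoc_of% he, Iso.inv_hom_id, Category.comp_id]
  · rintro ⟨f, hf, hfπ⟩
    refine ⟨_, hf.whiskerRight (inv e), ?_⟩
    have h2 : inv e ≫ chPt A n = fst _ _ ≫ β.hom := by
      rw [IsIso.inv_comp_eq, reassoc_of% he, Iso.inv_hom_id, Category.comp_id]
    rw [← cancel_mono β.hom, Category.assoc, Category.assoc, hfπ, whiskerRight_fst_assoc, h2, Category.assoc]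

variable [LocallyOfFinitePresentation G.hom]

omit [LocallyOfFinitePresentation G.hom] in
theorem isRelTorsor_comp : IsRelTorsor (totAct X.act) (totπ k X.X ≫ β.hom) :=
  ⟨by rw [reassoc_of% (isRelTorsor_torTot k X).inv],
    fun x y e => (isRelTorsor_torTot k X).diff x y (by
      rw [← cancel_mono β.hom]; simpa only [Category.assoc] using e)⟩

theorem descAlg_patch {A : Type u} [CommRing A] [Algebra R A] (r s : A) (hrs : IsCoprime r s)
    (hr : DescAlg β X (Localization.Away r)) (hs : DescAlg β X (Localization.Away s)) : DescAlg β X A := by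
  have hT := isTorsor_zero k X (originB_over β)
  have hq : NonAbH1.IsTorsorFor Scheme.fpqcPrecoverage (zeroAct k X (originB_over β)) :=
    isTorsorFor_mono Scheme.fppfPrecoverage_le_fpqcPrecoverage hT
  haveI : LocallyOfFinitePresentation (zeroX k X (z := originB β)).hom :=
    property_of_torsor @LocallyOfFinitePresentation hq inferInstance
  obtain ⟨R', _, _, hU, ⟨s₀⟩⟩ := exists_affine_trivialisation hT.2
  rw [descAlg_iff] at hr hs ⊢
  refine GoodR.patch (isRelTorsor_comp β X) hT.1 (zeroIncl k X (originB_over β))
    (fibreAct_i _ (isPullback_zero k X (originB_over β))) ?_ hU s₀ r s hrs hr hs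
  rw [← Category.assoc, (isPullback_zero k X (originB_over β)).w, Category.assoc]
  refine congrArg (toUnit _ ≫ ·) ?_
  rw [show zeroSec k (originB_over β) = origin₀ R n ≫ β.inv from Over.OverMorphism.ext rfl, Category.assoc,
    Iso.inv_hom_id, Category.comp_id]

omit [LocallyOfFinitePresentation G.hom] in
theorem descAlg_map {A A' : Type u} [CommRing A] [Algebra R A] [CommRing A'] [Algebra R A'] (φ : A →ₐ[R] A')
    (h : DescAlg β X A) : DescAlg β X A' := by
  rw [descAlg_iff] at h ⊢
  exact h.map φ

/-- The elements over whose localisation `X` descends. -/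
def descIdeal : Ideal R where
  carrier := {r | DescAlg β X (Localization.Away r)}
  zero_mem' := by
    haveI : Subsingleton (Localization.Away (0 : R)) :=
      IsLocalization.subsingleton (M := Submonoid.powers (0 : R)) (Submonoid.mem_powers 0)
    exact (descAlg_iff β X _).2 (goodR_of_subsingleton _)
  add_mem' := by
    intro a b ha hb
    let A := Localization.Away (a + b)
    have hu : IsUnit (algebraMap R A a + algebraMap R A b) := by
      rw [← map_add]; exact IsLocalization.Away.algebraMap_isUnit _
    obtain ⟨w, hw⟩ := hu.exists_right_inv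
    refine descAlg_patch β X (algebraMap R A a) (algebraMap R A b)
      ⟨w, w, by rw [← mul_add, _root_.mul_comm]; exact hw⟩ ?_ ?_
    · exact descAlg_map β X (IsLocalization.Away.liftAlgHom a
        (f := Algebra.ofId R (Localization.Away (algebraMap R A a))) (by
          show IsUnit (algebraMap R (Localization.Away (algebraMap R A a)) a)
          rw [IsScalarTower.algebraMap_apply R A (Localization.Away (algebraMap R A a))]
          exact IsLocalization.Away.algebraMap_isUnit _) :
        Localization.Away a →ₐ[R] Localization.Away (algebraMap R A a)) ha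
    · exact descAlg_map β X (IsLocalization.Away.liftAlgHom b
        (f := Algebra.ofId R (Localization.Away (algebraMap R A b))) (by
          show IsUnit (algebraMap R (Localization.Away (algebraMap R A b)) b)
          rw [IsScalarTower.algebraMap_apply R A (Localization.Away (algebraMap R A b))]
          exact IsLocalization.Away.algebraMap_isUnit _) :
        Localization.Away b →ₐ[R] Localization.Away (algebraMap R A b)) hb
  smul_mem' := by
    intro c r hr
    exact descAlg_map β X (IsLocalization.Away.liftAlgHom r
      (f := Algebra.ofId R (Localization.Away (c * r))) (IsLocalization.Away.isUnit_of_dvd (c * r) (dvd_mul_left r c)) :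
      Localization.Away r →ₐ[R] Localization.Away (c * r)) hr

theorem mem_descIdeal (r : R) : r ∈ descIdeal β X ↔ DescAlg β X (Localization.Away r) := Iff.rfl

omit [LocallyOfFinitePresentation G.hom] in
/-- Descent passes to smaller objects. -/
theorem descFam_mono {U U' : Scheme.{u}} {j : U ⟶ Spec (CommRingCat.of R)} {j' : U' ⟶ Spec (CommRingCat.of R)}
    (l : U' ⟶ U) (hl : l ≫ j = j') (h : DescFam k X (originB_over β) j) : DescFam k X (originB_over β) j' := by
  obtain ⟨f, hf, hfπ⟩ := h
  refine ⟨_, hf.whiskerRight (Over.mk k ◁ (Over.homMk l hl : Over.mk j' ⟶ Over.mk j)), ?_⟩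
  rw [Category.assoc, hfπ, whiskerRight_fst_assoc, whiskerLeft_fst]

/-- Descent near every point gives descent over the whole base. -/
theorem descAlg_self_of_locally
    (hloc : ∀ s : ↥(Spec (CommRingCat.of R)), ∃ (U : Scheme.{u}) (j : U ⟶ Spec (CommRingCat.of R))
      (_ : IsOpenImmersion j), s ∈ Set.range j.base ∧ DescFam k X (originB_over β) j) :
    DescAlg β X R := by
  have htop : descIdeal β X = ⊤ := by
    by_contra hne
    obtain ⟨m, hm, hle⟩ := Ideal.exists_le_maximal _ hne
    obtain ⟨U, j, hj, hs, hd⟩ := hloc ⟨m, hm.isPrime⟩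
    obtain ⟨_, ⟨r, rfl⟩, hmem, hsub⟩ := PrimeSpectrum.isTopologicalBasis_basic_opens.exists_subset_of_mem_open hs
      j.isOpenEmbedding.isOpen_range
    refine hmem (hle ?_)
    have hr : Set.range (Spec.map (CommRingCat.ofHom (algebraMap R (Localization.Away r)))).base ⊆ Set.range j.base := by
      refine Eq.trans_subset ?_ hsub
      exact PrimeSpectrum.localization_away_comap_range (Localization.Away r) r
    exact descFam_mono β X (IsOpenImmersion.lift j _ hr) (IsOpenImmersion.lift_fac _ _ _) hd
  have h1 : DescAlg β X (Localization.Away (1 : R)) :=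
    (mem_descIdeal β X 1).1 (htop ▸ Submodule.mem_top)
  exact descAlg_map β X (IsLocalization.atOne R (Localization.Away (1 : R))).symm.toAlgHom h1

end

end Groth.Agent.Patch17
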