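import Groth.Agent.Patch17.Subst
import Mathlib.RingTheory.MvPolynomial.Localization
import Mathlib.RingTheory.Coprime.Lemmas

/-!
# Patching of trivialisations over affine space
-/

set_option autoImplicit false
set_option linter.style.haveILetI false

universe u

open CategoryTheory MonoidalCategory CartesianMonoidalCategory MonObj AlgebraicGeometry

namespace Groth.Agent.Patch17

open Groth.Agent.GITLib

noncomputable section

variable {R : Type u} [CommRing R]

/-- The structure map to affine space over `R`. -/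
abbrev chPt (A : Type u) [CommRing A] [Algebra R A] (n : Type u) :
    SA (R := R) (MvPolynomial n A) ⟶ SA (R := R) (MvPolynomial n R) :=
  pt (MvPolynomial.mapAlgHom (Algebra.ofId R A))

/-- The origin of affine space over `R`. -/
def origin₀ (R : Type u) [CommRing R] (n : Type u) :
    𝟙_ (Over (Spec (CommRingCat.of R))) ⟶ SA (R := R) (MvPolynomial n R) :=
  Over.homMk (Spec.map (CommRingCat.ofHom (MvPolynomial.constantCoeff (σ := n) (R := R)))) (by
    show Spec.map _ ≫ Spec.map _ = 𝟙 _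
    rw [← Spec.map_comp, ← CommRingCat.ofHom_comp, ← Spec.map_id]
    congr 1
    exact CommRingCat.hom_ext (RingHom.ext fun a => MvPolynomial.constantCoeff_C n a))

theorem origin_chPt (A : Type u) [CommRing A] [Algebra R A] (n : Type u) :
    originPt (R := R) A n ≫ chPt A n = toUnit _ ≫ origin₀ R n := by
  refine Over.OverMorphism.ext ?_
  show Spec.map _ ≫ Spec.map _ = Spec.map _ ≫ Spec.map _
  rw [← Spec.map_comp, ← Spec.map_comp, ← CommRingCat.ofHom_comp, ← CommRingCat.ofHom_comp]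
  exact congrArg (fun φ => Spec.map (CommRingCat.ofHom φ))
    (MvPolynomial.ringHom_ext (fun a => by simp) fun i => by simp)

theorem pt_map_chPt {A A' : Type u} [CommRing A] [Algebra R A] [CommRing A'] [Algebra R A'] (φ : A →ₐ[R] A')
    (n : Type u) : pt (MvPolynomial.mapAlgHom (σ := n) φ) ≫ chPt A n = chPt (R := R) A' n := by
  rw [pt_comp]
  refine congrArg pt (AlgHom.coe_ringHom_injective ?_)
  exact MvPolynomial.ringHom_ext (fun a => by simp) fun i => by simp

theorem origin_map {A A' : Type u} [CommRing A] [Algebra R A] [CommRing A'] [Algebra R A'] (φ : A →ₐ[R] A')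
    (n : Type u) : originPt (R := R) A' n ≫ pt (MvPolynomial.mapAlgHom (σ := n) φ) = pt φ ≫ originPt A n := by
  rw [pt_comp, pt_comp]
  refine congrArg pt (AlgHom.coe_ringHom_injective ?_)
  exact MvPolynomial.ringHom_ext (fun a => by simp) fun i => by simp

variable {G P₀ E : Over (Spec (CommRingCat.of R))} [GrpObj G] (a₀ : AlgGrp.Action G P₀) (aE : AlgGrp.Action G E)
variable (n : Type u) (π : E ⟶ SA (R := R) (MvPolynomial n R))

/-- The torsor `E` over affine space descends over `A`: it is the pullback of `P₀`. -/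
def GoodR (A : Type u) [CommRing A] [Algebra R A] : Prop :=
  ∃ f : SA (R := R) (MvPolynomial n A) ⊗ P₀ ⟶ E, IsEquivFam a₀ aE f ∧ f ≫ π = fst _ _ ≫ chPt A n

variable {a₀ aE n π}

theorem GoodR.map {A A' : Type u} [CommRing A] [Algebra R A] [CommRing A'] [Algebra R A'] (φ : A →ₐ[R] A')
    (h : GoodR a₀ aE n π A) : GoodR a₀ aE n π A' := by
  obtain ⟨f, hf, hfπ⟩ := h
  exact ⟨_, hf.whiskerRight (pt (MvPolynomial.mapAlgHom φ)), by
    rw [Category.assoc, hfπ, whiskerRight_fst_assoc, pt_map_chPt]⟩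

/-- Maps out of `T ⊗ P₀` are determined on an open covering of `T`. -/
theorem hom_ext_cover {T Z : Over (Spec (CommRingCat.of R))} {J : Type u} {W : J → Over (Spec (CommRingCat.of R))}
    (k : ∀ i, W i ⟶ T) [∀ i, IsOpenImmersion (k i).left]
    (hcov : ∀ x : T.left, ∃ i, x ∈ Set.range (k i).left.base) {x y : T ⊗ P₀ ⟶ Z}
    (e : ∀ i, k i ▷ P₀ ≫ x = k i ▷ P₀ ≫ y) : x = y := by
  have hoi : ∀ i, IsOpenImmersion (k i ▷ P₀).left := fun i =>
    MorphismProperty.of_isPullback (P := @IsOpenImmersion) (isPullback_whiskerRight (k i) P₀) inferInstance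
  let 𝒰 : (T ⊗ P₀).left.OpenCover :=
    { I₀ := J
      X := fun i => (W i ⊗ P₀).left
      f := fun i => (k i ▷ P₀).left
      mem₀ := by
        rw [Scheme.presieve₀_mem_precoverage_iff]
        refine ⟨fun z => ?_, hoi⟩
        obtain ⟨i, x, hx⟩ := hcov ((fst T P₀).left.base z)
        obtain ⟨w, -, hw⟩ := Scheme.Pullback.exists_preimage_pullback (f := (k i).left) (g := (fst T P₀).left) x z hx
        refine ⟨i, ((isPullback_whiskerRight (k i) P₀).isoPullback.inv).base w, ?_⟩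
        rw [← Scheme.Hom.comp_apply, IsPullback.isoPullback_inv_snd]
        exact hw }
  exact Over.OverMorphism.ext (𝒰.hom_ext _ _ fun i => congrArg CommaMorphism.left (e i))

theorem whisker_lift {T T' Z : Over (Spec (CommRingCat.of R))} (k : T' ⟶ T) (z : T ⊗ P₀ ⟶ P₀) (f : T ⊗ P₀ ⟶ Z) :
    k ▷ P₀ ≫ lift (fst _ _) z ≫ f = lift (fst _ _) (k ▷ P₀ ≫ z) ≫ k ▷ P₀ ≫ f := by
  simp only [← Category.assoc]
  refine congrArg (· ≫ _) (CartesianMonoidalCategory.hom_ext _ _ ?_ ?_) <;> simp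

theorem goodR_of_subsingleton (A : Type u) [CommRing A] [Algebra R A] [Subsingleton A] : GoodR a₀ aE n π A := by
  haveI : IsEmpty (SA (R := R) (MvPolynomial n A)).left :=
    inferInstanceAs (IsEmpty (PrimeSpectrum (MvPolynomial n A)))
  obtain ⟨f, hf, -⟩ := exists_glue_fam (a₀ := a₀) (aE := aE) (J := PEmpty.{u + 1})
    (T := SA (R := R) (MvPolynomial n A)) (W := fun i => i.elim) (fun i => i.elim) (fun x => isEmptyElim x)
    (fun i => i.elim) (fun i => i.elim) fun i => i.elim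
  exact ⟨f, hf, hom_ext_cover (J := PEmpty.{u + 1}) (W := fun i => i.elim) (fun i => i.elim)
    (fun x => isEmptyElim x) fun i => i.elim⟩

variable (hE : IsRelTorsor aE π) (h₀ : NonAbH1.IsPseudoTorsorSch a₀) (i₀ : P₀ ⟶ E)
  (hi : a₀.act ≫ i₀ = G ◁ i₀ ≫ aE.act) (hiπ : i₀ ≫ π = toUnit P₀ ≫ origin₀ R n)

include hi in
theorem isEquivFam_zero (T : Over (Spec (CommRingCat.of R))) : IsEquivFam a₀ aE (snd T P₀ ≫ i₀) := fun t g p => by
  rw [lift_snd_assoc, Category.assoc, hi, lift_whiskerLeft_assoc, lift_snd_assoc]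

include hE h₀ hi hiπ in
/-- A trivialisation can be normalised at the origin. -/
theorem GoodR.normalise {A : Type u} [CommRing A] [Algebra R A] (h : GoodR a₀ aE n π A) :
    ∃ f : SA (R := R) (MvPolynomial n A) ⊗ P₀ ⟶ E, IsEquivFam a₀ aE f ∧ f ≫ π = fst _ _ ≫ chPt A n ∧
      originPt A n ▷ P₀ ≫ f = snd _ _ ≫ i₀ := by
  obtain ⟨f, hf, hfπ⟩ := h
  obtain ⟨θ, ⟨hθ, hθe⟩, -⟩ := existsUnique_autFam hE h₀ (hf.whiskerRight (originPt A n))
    (isEquivFam_zero i₀ hi (SA A)) (by
      rw [Category.assoc, Category.assoc, hfπ, hiπ, whiskerRight_fst_assoc, origin_chPt,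
        ← Category.assoc, ← Category.assoc (snd _ _)]
      exact congrArg (· ≫ origin₀ R n) (toUnit_unique _ _))
  let p : SA (R := R) (MvPolynomial n A) ⟶ SA A := pt (IsScalarTower.toAlgHom R A (MvPolynomial n A))
  refine ⟨lift (fst _ P₀) (p ▷ P₀ ≫ θ) ≫ f, hf.comp (hθ.whiskerRight p), ?_, ?_⟩
  · rw [Category.assoc, hfπ, lift_fst_assoc]
  · have hp : originPt (R := R) A n ≫ p = 𝟙 _ := by
      rw [pt_comp, ← pt_id]
      exact congrArg pt (AlgHom.ext fun a => by simp)
    have hp' : originPt (R := R) A n ▷ P₀ ≫ p ▷ P₀ = 𝟙 _ := by rw [← comp_whiskerRight, hp, id_whiskerRight]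
    rw [comp_lift_assoc, whiskerRight_fst, reassoc_of% hp', ← hθe, ← Category.assoc (lift (fst (SA A) P₀) θ)]
    refine congrArg (· ≫ f) (CartesianMonoidalCategory.hom_ext _ _ ?_ ?_) <;> simp

attribute [local instance] MvPolynomial.algebraMvPolynomial

theorem range_locPt {A A' : Type u} [CommRing A] [Algebra R A] [CommRing A'] [Algebra R A'] [Algebra A A']
    [IsScalarTower R A A'] (s : A) [IsLocalization.Away s A'] :
    IsOpenImmersion (locPt (R := R) A A' n).left ∧ Set.range (locPt (R := R) A A' n).left.base =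
      (PrimeSpectrum.basicOpen (MvPolynomial.C (σ := n) s) : Set (PrimeSpectrum (MvPolynomial n A))) := by
  haveI : IsLocalization.Away (MvPolynomial.C (σ := n) s) (MvPolynomial n A') := by
    have := MvPolynomial.isLocalization (σ := n) (Submonoid.powers s) A'
    rwa [Submonoid.map_powers] at this
  have e : (MvPolynomial.mapAlgHom (σ := n) (IsScalarTower.toAlgHom R A A')).toRingHom =
      algebraMap (MvPolynomial n A) (MvPolynomial n A') :=
    RingHom.ext fun _ => rfl
  rw [pt_left, e]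
  exact ⟨IsOpenImmersion.of_isLocalization (MvPolynomial.C (σ := n) s),
    PrimeSpectrum.localization_away_comap_range _ _⟩

theorem exists_split [LocallyOfFinitePresentation P₀.hom] (h₀ : NonAbH1.IsPseudoTorsorSch a₀)
    {R' : Type u} [CommRing R'] [Algebra R R']
    (hU : NonAbH1.IsLocallyTrivialFor Scheme.fpqcPrecoverage (SA (R := R) R')) (s₀ : SA (R := R) R' ⟶ P₀)
    {A Ar As Ars : Type u} [CommRing A] [Algebra R A] [CommRing Ar] [Algebra R Ar] [CommRing As] [Algebra R As]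
    [CommRing Ars] [Algebra R Ars] [Algebra A Ar] [Algebra A As]
    [Algebra A Ars] [Algebra Ar Ars] [Algebra As Ars] [IsScalarTower R A Ar] [IsScalarTower R A As]
    [IsScalarTower A Ar Ars] [IsScalarTower A As Ars] [IsScalarTower R Ar Ars] [IsScalarTower R As Ars]
    (r s : A) [IsLocalization.Away (algebraMap A Ar s) Ars] [IsLocalization.Away (algebraMap A As r) Ars]
    (hrs : IsCoprime r s) {θ : SA (R := R) (MvPolynomial n Ars) ⊗ P₀ ⟶ P₀} (hθ : IsEquivFam a₀ a₀ θ)
    (hθ0 : originPt (R := R) Ars n ▷ P₀ ≫ θ = snd _ _) :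
    ∃ (α : SA (R := R) (MvPolynomial n Ar) ⊗ P₀ ⟶ P₀) (β : SA (R := R) (MvPolynomial n As) ⊗ P₀ ⟶ P₀),
      IsEquivFam a₀ a₀ α ∧ IsEquivFam a₀ a₀ β ∧
      locPt (R := R) Ar Ars n ▷ P₀ ≫ α = lift (fst _ _) (locPt (R := R) As Ars n ▷ P₀ ≫ β) ≫ θ := by
  haveI := isAway_C (n := n) (A' := Ars) (algebraMap A Ar s)
  obtain ⟨κ, hκ, hκe⟩ := exists_inv h₀ (hθ.whiskerRight (fstPt (R := R) Ars n))
  have hΦ : IsEquivFam a₀ a₀ (lift (fst _ P₀) κ ≫ sumPt (R := R) Ars n ▷ P₀ ≫ θ) :=
    IsEquivFam.comp (hθ.whiskerRight _) hκ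
  have hΦ0 : originPt (R := R) (MvPolynomial n Ars) n ▷ P₀ ≫
      lift (fst _ P₀) κ ≫ sumPt (R := R) Ars n ▷ P₀ ≫ θ = snd _ _ := by
    have := congrArg (originPt (R := R) (MvPolynomial n Ars) n ▷ P₀ ≫ ·) hκe
    simp only [whiskerRight_snd] at this
    rw [← this, whisker_lift, whisker_lift, ← comp_whiskerRight_assoc, origin_sum_fst, comp_whiskerRight_assoc]
  obtain ⟨N, Ψ, hΨ, hΨe⟩ := exists_extend_aut (R := R) n (MvPolynomial.C (σ := n) (algebraMap A Ar s))
    (A' := MvPolynomial n Ars) h₀ hU s₀ _ hΦ hΦ0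
  obtain ⟨M, η', hη, hηe⟩ := exists_extend_aut (R := R) n (algebraMap A As r) (A' := Ars) h₀ hU s₀ θ hθ hθ0
  obtain ⟨c, b, hcb⟩ : IsCoprime (r ^ (N + M)) (s ^ N) := hrs.pow
  obtain ⟨v, hv⟩ : ∃ v, v = c * r ^ (N + M) := ⟨_, rfl⟩
  obtain ⟨τ, hτ⟩ : ∃ τ, τ = substPt (R := R) Ars n (algebraMap A Ars v) (algebraMap A Ars b) ≫
      pt (scaleAlg (R := R) n (MvPolynomial.C (σ := n) (algebraMap A Ars s ^ N))) := ⟨_, rfl⟩
  have hα : locPt (R := R) Ar Ars n ▷ P₀ ≫ substPt (R := R) Ar n (algebraMap A Ar v) (algebraMap A Ar b) ▷ P₀ ≫ Ψ =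
      lift (fst _ _) (τ ▷ P₀ ≫ κ) ≫ θ := by
    rw [← comp_whiskerRight_assoc, locPt_subst, comp_whiskerRight_assoc, hΨe, ← comp_whiskerRight_assoc]
    have e : substPt (R := R) Ars n (algebraMap Ar Ars (algebraMap A Ar v)) (algebraMap Ar Ars (algebraMap A Ar b)) ≫
        pt (scaleAlg (R := R) n (algebraMap (MvPolynomial n Ar) (MvPolynomial n Ars)
          (MvPolynomial.C (σ := n) (algebraMap A Ar s)) ^ N)) = τ := by
      rw [hτ, ← IsScalarTower.algebraMap_apply, ← IsScalarTower.algebraMap_apply, MvPolynomial.algebraMap_def,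
        MvPolynomial.map_C, ← IsScalarTower.algebraMap_apply, map_pow]
    rw [e, whisker_lift, ← comp_whiskerRight_assoc, hτ, Category.assoc, subst_scale_sum, id_whiskerRight,
      Category.id_comp]
    rw [hv, ← map_pow, ← map_mul, ← map_add, _root_.mul_comm (s ^ N), hcb, map_one]
  obtain ⟨β, hβ, hβe⟩ := exists_inv h₀
    (θ := pt (scaleAlg (R := R) n (algebraMap A As (c * r ^ N))) ▷ P₀ ≫ η') (hη.whiskerRight _)
  refine ⟨_, β, hΨ.whiskerRight _, hβ, hα.trans ?_⟩
  have hρ : locPt (R := R) As Ars n ▷ P₀ ≫ pt (scaleAlg (R := R) n (algebraMap A As (c * r ^ N))) ▷ P₀ ≫ η' =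
      pt (scaleAlg (R := R) n (algebraMap A Ars v)) ▷ P₀ ≫ θ := by
    rw [← comp_whiskerRight_assoc, locPt_scale, comp_whiskerRight_assoc, hηe, ← comp_whiskerRight_assoc, scalePt_scale]
    simp only [← IsScalarTower.algebraMap_apply A As Ars, ← map_pow, ← map_mul, hv, pow_add, _root_.mul_assoc]
  suffices h : τ ▷ P₀ ≫ κ = locPt (R := R) As Ars n ▷ P₀ ≫ β by rw [h]
  refine IsEquivFam.cancel (isRelTorsor_toUnit h₀) h₀ (f := pt (scaleAlg (R := R) n (algebraMap A Ars v)) ▷ P₀ ≫ θ)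
    (hθ.whiskerRight _) (hκ.whiskerRight _) (hβ.whiskerRight _) (toUnit_unique _ _) ?_
  have h1 := congrArg (locPt (R := R) As Ars n ▷ P₀ ≫ ·) hβe
  have h2 := congrArg (τ ▷ P₀ ≫ ·) hκe
  simp only [whiskerRight_snd] at h1 h2
  rw [whisker_lift, hρ] at h1
  rw [whisker_lift, ← comp_whiskerRight_assoc, hτ, Category.assoc, subst_scale_fst, ← hτ] at h2
  rw [h1, h2]

/-- Two descents agreeing on the overlap glue. -/
theorem GoodR.glue {A Ar As Ars : Type u} [CommRing A] [Algebra R A] [CommRing Ar] [Algebra R Ar]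
    [CommRing As] [Algebra R As] [CommRing Ars] [Algebra R Ars] [Algebra A Ar] [IsScalarTower R A Ar]
    [Algebra A As] [IsScalarTower R A As] [Algebra A Ars] [Algebra Ar Ars] [Algebra As Ars]
    [IsScalarTower A Ar Ars] [IsScalarTower A As Ars] [IsScalarTower R Ar Ars] [IsScalarTower R As Ars]
    (r s : A) [IsLocalization.Away r Ar] [IsLocalization.Away s As]
    [IsLocalization.Away (algebraMap A Ar s) Ars] (hrs : IsCoprime r s)
    {gr : SA (R := R) (MvPolynomial n Ar) ⊗ P₀ ⟶ E} {gs : SA (R := R) (MvPolynomial n As) ⊗ P₀ ⟶ E}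
    (hgr : IsEquivFam a₀ aE gr) (hgs : IsEquivFam a₀ aE gs)
    (hgrπ : gr ≫ π = fst _ _ ≫ chPt Ar n) (hgsπ : gs ≫ π = fst _ _ ≫ chPt As n)
    (hg : locPt (R := R) Ar Ars n ▷ P₀ ≫ gr = locPt (R := R) As Ars n ▷ P₀ ≫ gs) :
    GoodR a₀ aE n π A := by
  let kr := locPt (R := R) A Ar n
  let ks := locPt (R := R) A As n
  let kr' := locPt (R := R) Ar Ars n
  let ks' := locPt (R := R) As Ars n
  have hk : kr' ≫ kr = ks' ≫ ks := by
    simp only [kr', kr, ks', ks, pt_comp]
    refine congrArg pt (AlgHom.coe_ringHom_injective ?_)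
    exact MvPolynomial.ringHom_ext
      (fun a => by simp [← IsScalarTower.algebraMap_apply A Ar Ars, ← IsScalarTower.algebraMap_apply A As Ars])
      fun i => by simp
  obtain ⟨hoir, hranger⟩ := range_locPt (R := R) (n := n) (A := A) (A' := Ar) r
  obtain ⟨hois, hranges⟩ := range_locPt (R := R) (n := n) (A := A) (A' := As) s
  obtain ⟨hoirs, hrangers⟩ := range_locPt (R := R) (n := n) (A := Ar) (A' := Ars) (algebraMap A Ar s)
  haveI := hois
  have key : ∀ {V : Over (Spec (CommRingCat.of R))} (x : V ⟶ SA (R := R) (MvPolynomial n Ar))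
      (y : V ⟶ SA (R := R) (MvPolynomial n As)), x ≫ kr = y ≫ ks → x ▷ P₀ ≫ gr = y ▷ P₀ ≫ gs := by
    intro V x y hxy
    have hsub : Set.range x.left.base ⊆ Set.range kr'.left.base := by
      rintro _ ⟨z, rfl⟩
      rw [hrangers]
      have hz : kr.left.base (x.left.base z) ∈ Set.range ks.left.base :=
        ⟨y.left.base z, by rw [← Scheme.Hom.comp_apply, ← Scheme.Hom.comp_apply, ← Over.comp_left,
          ← Over.comp_left, hxy]⟩
      rw [hranges] at hz
      refine fun h => hz ?_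
      show MvPolynomial.map (algebraMap A Ar) (MvPolynomial.C (σ := n) s) ∈
        (x.left.base z : PrimeSpectrum (MvPolynomial n Ar)).asIdeal
      rw [MvPolynomial.map_C]
      exact h
    haveI := hoirs
    let z : V ⟶ SA (R := R) (MvPolynomial n Ars) := Over.homMk (IsOpenImmersion.lift kr'.left x.left hsub) (by
      rw [← Over.w kr', ← Category.assoc, IsOpenImmersion.lift_fac]
      exact Over.w x)
    have hz : z ≫ kr' = x := Over.OverMorphism.ext (IsOpenImmersion.lift_fac _ _ hsub)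
    haveI : Mono ks := (Over.forget _).mono_of_mono_map (inferInstanceAs (Mono ks.left))
    have hz' : z ≫ ks' = y := by rw [← cancel_mono ks, Category.assoc, ← hk, reassoc_of% hz, hxy]
    rw [← hz, ← hz', comp_whiskerRight_assoc, comp_whiskerRight_assoc, hg]
  let W : ULift.{u} Bool → Over (Spec (CommRingCat.of R)) := fun i =>
    cond i.down (SA (R := R) (MvPolynomial n Ar)) (SA (R := R) (MvPolynomial n As))
  let k : ∀ i, W i ⟶ SA (R := R) (MvPolynomial n A)
    | ⟨true⟩ => kr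
    | ⟨false⟩ => ks
  let g : ∀ i, W i ⊗ P₀ ⟶ E
    | ⟨true⟩ => gr
    | ⟨false⟩ => gs
  haveI : ∀ i, IsOpenImmersion (k i).left
    | ⟨true⟩ => hoir
    | ⟨false⟩ => hois
  have hcov : ∀ x : (SA (R := R) (MvPolynomial n A)).left, ∃ i, x ∈ Set.range (k i).left.base := by
    intro x
    by_cases h : MvPolynomial.C (σ := n) r ∈ (x : PrimeSpectrum (MvPolynomial n A)).asIdeal
    · refine ⟨⟨false⟩, ?_⟩
      rw [show Set.range (k ⟨false⟩).left.base = _ from hranges]
      intro h'
      obtain ⟨a', b', hab⟩ := hrs.map (MvPolynomial.C : A →+* MvPolynomial n A)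
      exact (x : PrimeSpectrum (MvPolynomial n A)).isPrime.ne_top ((Ideal.eq_top_iff_one _).2
        (hab ▸ add_mem (Ideal.mul_mem_left _ _ h) (Ideal.mul_mem_left _ _ h')))
    · refine ⟨⟨true⟩, ?_⟩
      rw [show Set.range (k ⟨true⟩).left.base = _ from hranger]
      exact h
  haveI : Mono kr := (Over.forget _).mono_of_mono_map
    (haveI := hoir; inferInstanceAs (Mono kr.left))
  haveI : Mono ks := (Over.forget _).mono_of_mono_map (inferInstanceAs (Mono ks.left))
  obtain ⟨F, hF, hFk⟩ := exists_glue_fam k hcov g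
    (fun i => match i with | ⟨true⟩ => hgr | ⟨false⟩ => hgs)
    (fun i j {V} x y e => match i, j with
      | ⟨true⟩, ⟨true⟩ => by rw [(cancel_mono kr).1 e]
      | ⟨false⟩, ⟨false⟩ => by rw [(cancel_mono ks).1 e]
      | ⟨true⟩, ⟨false⟩ => key x y e
      | ⟨false⟩, ⟨true⟩ => (key y x e.symm).symm)
  refine ⟨F, hF, hom_ext_cover k hcov fun i => ?_⟩
  rw [reassoc_of% (hFk i), whiskerRight_fst_assoc]
  rcases i with ⟨_ | _⟩
  · show gs ≫ π = fst _ _ ≫ ks ≫ chPt A n
    simp only [ks, locPt, hgsπ, pt_map_chPt]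
  · show gr ≫ π = fst _ _ ≫ kr ≫ chPt A n
    simp only [kr, locPt, hgrπ, pt_map_chPt]

include hE h₀ hi hiπ in
/-- Patching, with chosen models of the localisations. -/
theorem GoodR.patch_aux [LocallyOfFinitePresentation P₀.hom] {R' : Type u} [CommRing R'] [Algebra R R']
    (hU : NonAbH1.IsLocallyTrivialFor Scheme.fpqcPrecoverage (SA (R := R) R')) (s₀ : SA (R := R) R' ⟶ P₀)
    {A Ar As Ars : Type u} [CommRing A] [Algebra R A] [CommRing Ar] [Algebra R Ar] [CommRing As] [Algebra R As]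
    [CommRing Ars] [Algebra R Ars] [Algebra A Ar] [IsScalarTower R A Ar] [Algebra A As] [IsScalarTower R A As]
    [Algebra A Ars] [IsScalarTower R A Ars] [Algebra Ar Ars] [Algebra As Ars]
    [IsScalarTower A Ar Ars] [IsScalarTower A As Ars] [IsScalarTower R Ar Ars] [IsScalarTower R As Ars]
    (r s : A) [IsLocalization.Away r Ar] [IsLocalization.Away s As]
    [IsLocalization.Away (algebraMap A Ar s) Ars] [IsLocalization.Away (algebraMap A As r) Ars]
    (hrs : IsCoprime r s) (hr : GoodR a₀ aE n π Ar) (hs : GoodR a₀ aE n π As) :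
    GoodR a₀ aE n π A := by
  obtain ⟨fr, hfr, hfrπ, hfr0⟩ := hr.normalise hE h₀ i₀ hi hiπ
  obtain ⟨fs, hfs, hfsπ, hfs0⟩ := hs.normalise hE h₀ i₀ hi hiπ
  have hπrs : (locPt (R := R) Ar Ars n ▷ P₀ ≫ fr) ≫ π = (locPt (R := R) As Ars n ▷ P₀ ≫ fs) ≫ π := by
    simp only [Category.assoc, hfrπ, hfsπ, whiskerRight_fst_assoc, locPt, pt_map_chPt]
  obtain ⟨θ, ⟨hθ, hθe⟩, -⟩ := existsUnique_autFam hE h₀ (hfr.whiskerRight _) (hfs.whiskerRight _) hπrs
  have hθ0 : originPt (R := R) Ars n ▷ P₀ ≫ θ = snd _ _ := by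
    refine IsEquivFam.cancel hE h₀ (f := snd _ P₀ ≫ i₀) (isEquivFam_zero i₀ hi _) (hθ.whiskerRight _) isEquivFam_snd
      (by simp only [Category.assoc, hiπ, comp_toUnit_assoc]) ?_
    have h1 : originPt (R := R) Ars n ▷ P₀ ≫ locPt (R := R) Ar Ars n ▷ P₀ ≫ fr = snd _ _ ≫ i₀ := by
      rw [← comp_whiskerRight_assoc, origin_map, comp_whiskerRight_assoc, hfr0, whiskerRight_snd_assoc]
    have h2 : originPt (R := R) Ars n ▷ P₀ ≫ locPt (R := R) As Ars n ▷ P₀ ≫ fs = snd _ _ ≫ i₀ := by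
      rw [← comp_whiskerRight_assoc, origin_map, comp_whiskerRight_assoc, hfs0, whiskerRight_snd_assoc]
    rw [lift_fst_snd, Category.id_comp]
    refine Eq.trans ?_ h2
    rw [← hθe, ← h1, whisker_lift]
  obtain ⟨α, β, hα, hβ, hαβ⟩ := exists_split (n := n) (Ar := Ar) (As := As) h₀ hU s₀ r s hrs hθ hθ0
  refine GoodR.glue (Ars := Ars) r s hrs (hfr.comp hα) (hfs.comp hβ)
    (by rw [Category.assoc, hfrπ, lift_fst_assoc]) (by rw [Category.assoc, hfsπ, lift_fst_assoc]) ?_
  rw [whisker_lift, whisker_lift, hαβ, ← hθe, comp_lift_assoc]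
  simp

include hE h₀ hi hiπ in
/-- Patching: descent over two members of a covering gives descent. -/
theorem GoodR.patch [LocallyOfFinitePresentation P₀.hom] {R' : Type u} [CommRing R'] [Algebra R R']
    (hU : NonAbH1.IsLocallyTrivialFor Scheme.fpqcPrecoverage (SA (R := R) R')) (s₀ : SA (R := R) R' ⟶ P₀)
    {A : Type u} [CommRing A] [Algebra R A] (r s : A) (hrs : IsCoprime r s)
    (hr : GoodR a₀ aE n π (Localization.Away r)) (hs : GoodR a₀ aE n π (Localization.Away s)) :
    GoodR a₀ aE n π A := by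
  let Ar := Localization.Away r
  let As := Localization.Away s
  let Ars := Localization.Away (algebraMap A Ar s)
  have hu : IsUnit (algebraMap A Ars s) := by
    rw [IsScalarTower.algebraMap_apply A Ar Ars]
    exact IsLocalization.Away.algebraMap_isUnit _
  letI : Algebra As Ars := (IsLocalization.Away.lift s hu).toAlgebra
  haveI : IsScalarTower A As Ars :=
    IsScalarTower.of_algebraMap_eq fun a => (IsLocalization.Away.lift_eq s hu a).symm
  haveI : IsScalarTower R As Ars := IsScalarTower.of_algebraMap_eq fun x => by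
    rw [IsScalarTower.algebraMap_apply R A As, ← IsScalarTower.algebraMap_apply A As Ars,
      ← IsScalarTower.algebraMap_apply R A Ars]
  haveI : IsLocalization.Away (algebraMap A As r) Ars := IsLocalization.Away.commutes As Ar Ars s r
  exact GoodR.patch_aux hE h₀ i₀ hi hiπ hU s₀ (Ar := Ar) (As := As) (Ars := Ars) r s hrs hr hs

end

end Groth.Agent.Patch17
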