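import Groth.Agent.G0Patch.MilnorGlue
import Mathlib.AlgebraicGeometry.AffineTransitionLimit
import Mathlib.RingTheory.MvPolynomial.Basic
import Mathlib.RingTheory.Localization.Away.Basic
import Mathlib.CategoryTheory.Limits.Types.Filtered
import Mathlib.Algebra.Category.Ring.FilteredColimits

/-!
# Extending maps from `A[1/s][T]` to lfp schemes after scaling the variables
-/

set_option autoImplicit false
set_option linter.style.haveILetI false

universe u

open CategoryTheory CategoryTheory.Limits AlgebraicGeometry

namespace Groth.Agent.Patch17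

noncomputable section

open MvPolynomial
open Groth.Agent.G0Patch (sp)

/-- Scaling of the variables. -/
def scale {A : Type u} [CommRing A] {n : Type u} (c : A) : MvPolynomial n A →+* MvPolynomial n A :=
  (aeval fun i => C c * X i : MvPolynomial n A →ₐ[A] MvPolynomial n A).toRingHom

section

variable {A : Type u} [CommRing A] {n : Type u} (c d : A)

@[simp] theorem scale_C (a : A) : scale (n := n) c (C a) = C a := by simp [scale]

@[simp] theorem scale_X (i : n) : scale c (X i) = C c * X i := by simp [scale]

theorem scale_scale : (scale (n := n) c).comp (scale d) = scale (d * c) := by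
  refine MvPolynomial.ringHom_ext (fun a => by simp) fun i => ?_
  simp [C_mul, mul_assoc]

theorem scale_one : scale (n := n) (1 : A) = RingHom.id _ :=
  MvPolynomial.ringHom_ext (fun a => by simp) fun i => by simp

theorem map_comp_scale {B : Type u} [CommRing B] (φ : A →+* B) :
    (MvPolynomial.map φ).comp (scale (n := n) c) = (scale (φ c)).comp (MvPolynomial.map φ) := by
  refine MvPolynomial.ringHom_ext (fun a => by simp) fun i => by simp

theorem constantCoeff_comp_scale : constantCoeff.comp (scale (n := n) c) = constantCoeff := by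
  refine MvPolynomial.ringHom_ext (fun a => by simp) fun i => by simp

theorem scale_monomial (m : n →₀ ℕ) (a : A) :
    scale c (monomial m a) = monomial m (c ^ m.degree * a) := by
  induction m using Finsupp.induction₂ generalizing a with
  | zero => simp [← C_apply]
  | add_single i b m hi hb ih =>
    rw [show monomial (m + Finsupp.single i b) a = monomial m a * X i ^ b by
      rw [X_pow_eq_monomial, monomial_mul, mul_one], map_mul, map_pow, ih, scale_X, mul_pow, ← C_pow,
      X_pow_eq_monomial, C_mul_monomial, monomial_mul]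
    congr 1
    rw [map_add, Finsupp.degree_single]
    ring

theorem coeff_scale (p : MvPolynomial n A) (m : n →₀ ℕ) :
    (scale c p).coeff m = c ^ m.degree * p.coeff m := by
  classical
  induction p using MvPolynomial.induction_on' with
  | monomial l a =>
    rw [scale_monomial, coeff_monomial, coeff_monomial]
    split_ifs with h
    · rw [h]
    · rw [mul_zero]
  | add p q hp hq => simp [hp, hq, mul_add]

end

variable {A : Type u} [CommRing A] (s : A) (A' : Type u) [CommRing A'] [Algebra A A']
  [IsLocalization.Away s A'] (n : Type u)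

/-- Polynomials over the localisation with a lift of the constant term. -/
def pinch : Subring (MvPolynomial n A' × A) :=
  RingHom.eqLocus (constantCoeff.comp (RingHom.fst _ A)) ((algebraMap A A').comp (RingHom.snd _ A))

abbrev pfst : pinch (A := A) A' n →+* MvPolynomial n A' := (RingHom.fst _ A).comp (pinch (A := A) A' n).subtype
abbrev psnd : pinch (A := A) A' n →+* A := (RingHom.snd _ A).comp (pinch (A := A) A' n).subtype

theorem pfst_psnd : (algebraMap A A').comp (psnd (A := A) A' n) = constantCoeff.comp (pfst (A := A) A' n) :=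
  RingHom.ext fun x => x.2.symm

/-- Stage `N` of the pinched ring. -/
def stage (N : ℕ) : MvPolynomial n A →+* pinch (A := A) A' n :=
  ((scale ((IsLocalization.Away.invSelf s : A') ^ N)).comp (MvPolynomial.map (algebraMap A A'))).prod
    constantCoeff |>.codRestrict _ fun p => by
      show constantCoeff (scale _ (MvPolynomial.map (algebraMap A A') p)) = algebraMap A A' (constantCoeff p)
      rw [← RingHom.comp_apply constantCoeff, constantCoeff_comp_scale]
      exact MvPolynomial.constantCoeff_map _ p

theorem pfst_stage (N : ℕ) : (pfst A' n).comp (stage s A' n N) =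
    (scale ((IsLocalization.Away.invSelf s : A') ^ N)).comp (MvPolynomial.map (algebraMap A A')) := rfl

theorem psnd_stage (N : ℕ) : (psnd A' n).comp (stage s A' n N) = constantCoeff := rfl

/-- The directed system given by scaling with `s`. -/
def seq : ULift.{u} ℕ ⥤ CommRingCat.{u} where
  obj _ := CommRingCat.of (MvPolynomial n A)
  map {i j} _ := CommRingCat.ofHom (scale (s ^ (j.down - i.down)))
  map_id i := by rw [Nat.sub_self, pow_zero, scale_one]; rfl
  map_comp {i j l} f g := by
    rw [← CommRingCat.ofHom_comp, scale_scale, ← pow_add]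
    congr 3
    have h1 : i ≤ j := leOfHom f
    have : i.down ≤ j.down := h1
    have h2 : j ≤ l := leOfHom g
    have : j.down ≤ l.down := h2
    omega

/-- The cocone of the stages. -/
def pinchCocone : Cocone (seq s n) where
  pt := CommRingCat.of (pinch (A := A) A' n)
  ι :=
    { app := fun N => CommRingCat.ofHom (stage s A' n N.down)
      naturality := fun i j f => by
        refine CommRingCat.hom_ext (RingHom.ext fun p => Subtype.ext (Prod.ext ?_ ?_))
        · show scale _ (MvPolynomial.map (algebraMap A A') (scale (s ^ (j.down - i.down)) p)) =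
            scale _ (MvPolynomial.map (algebraMap A A') p)
          rw [← RingHom.comp_apply (MvPolynomial.map (algebraMap A A')), map_comp_scale, RingHom.comp_apply,
            ← RingHom.comp_apply (scale _) (scale _), scale_scale, map_pow]
          refine congrArg (fun c => scale c (MvPolynomial.map (algebraMap A A') p)) ?_
          have h1 : i ≤ j := leOfHom f
          have : i.down ≤ j.down := h1
          rw [show (IsLocalization.Away.invSelf s : A') ^ j.down =
              IsLocalization.Away.invSelf s ^ (j.down - i.down) * IsLocalization.Away.invSelf s ^ i.down by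
            rw [← pow_add]; congr 1; omega, ← mul_assoc, ← mul_pow, IsLocalization.Away.mul_invSelf, one_pow, one_mul]
        · exact RingHom.congr_fun (constantCoeff_comp_scale (s ^ (j.down - i.down))) p }

theorem exists_pow_mul_eq (x : A') : ∃ (e : ℕ) (a : A), x * algebraMap A A' s ^ e = algebraMap A A' a :=
  IsLocalization.Away.surj s x

def isColimitPinch : IsColimit (pinchCocone s A' n) := by
  classical
  haveI : HasColimit (seq s n) := inferInstance
  haveI : PreservesColimit (seq s n) (forget CommRingCat.{u}) := inferInstance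
  haveI : ReflectsColimit (seq s n) (forget CommRingCat.{u}) := reflectsColimit_of_reflectsIsomorphisms _ _
  refine isColimitOfReflects (forget CommRingCat.{u}) (Types.FilteredColimit.isColimitOf' _ _ ?_ ?_)
  · rintro ⟨⟨f, a⟩, hfa⟩
    have hfa' : constantCoeff f = algebraMap A A' a := hfa
    choose e c hc using fun m => exists_pow_mul_eq s A' (f.coeff m)
    let N := f.support.sup e
    let b : (n →₀ ℕ) → A := fun m => if m = 0 then a else c m * s ^ (N * m.degree - e m)
    let p : MvPolynomial n A := ∑ m ∈ insert 0 f.support, monomial m (b m)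
    have hp : ∀ m, p.coeff m = if m ∈ insert 0 f.support then b m else 0 := fun m => by
      simp only [p, coeff_sum, coeff_monomial]
      rw [Finset.sum_ite_eq']
    refine ⟨⟨N⟩, p, Subtype.ext (Prod.ext ?_ ?_)⟩
    · show f = scale _ (MvPolynomial.map (algebraMap A A') p)
      refine MvPolynomial.ext _ _ fun m => ?_
      rw [coeff_scale, coeff_map, hp]
      by_cases hm : m = 0
      · subst hm
        simp [b, ← hfa', constantCoeff_eq]
      · by_cases hmf : m ∈ f.support
        · rw [if_pos (Finset.mem_insert_of_mem hmf)]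
          simp only [b, if_neg hm, map_mul, map_pow, ← pow_mul]
          have hle : e m ≤ N * m.degree :=
            (Finset.le_sup hmf).trans (Nat.le_mul_of_pos_right _ (Nat.pos_of_ne_zero
              (fun h => hm ((Finsupp.degree_eq_zero_iff m).1 h))))
          rw [← hc m, mul_assoc, ← pow_add, Nat.add_sub_cancel' hle, mul_left_comm, ← mul_pow,
            mul_comm (IsLocalization.Away.invSelf s : A'), IsLocalization.Away.mul_invSelf, one_pow, mul_one]
        · rw [if_neg (by simp [hm, hmf]), map_zero, mul_zero]
          exact notMem_support_iff.1 hmf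
    · show a = constantCoeff p
      rw [constantCoeff_eq, hp]
      simp [b]
  · intro i xi yi h
    let xi' : MvPolynomial n A := xi
    let yi' : MvPolynomial n A := yi
    have hA : scale _ (MvPolynomial.map (algebraMap A A') xi') = scale _ (MvPolynomial.map (algebraMap A A') yi') :=
      congrArg (fun z : pinch (A := A) A' n => z.1.1) h
    have h0 : constantCoeff xi' = constantCoeff yi' := congrArg (fun z : pinch (A := A) A' n => z.1.2) h
    have hm : ∀ m, ∃ M : ℕ, s ^ M * (xi'.coeff m - yi'.coeff m) = 0 := by
      intro m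
      have e := congrArg (MvPolynomial.coeff m) hA
      rw [coeff_scale, coeff_scale, coeff_map, coeff_map] at e
      have hu : IsUnit (((IsLocalization.Away.invSelf s : A') ^ i.down) ^ m.degree) :=
        ((IsUnit.of_mul_eq_one_right _ (IsLocalization.Away.mul_invSelf s)).pow _).pow _
      obtain ⟨⟨_, M, rfl⟩, hM⟩ := (IsLocalization.eq_iff_exists (Submonoid.powers s) A').1 (hu.mul_left_cancel e)
      exact ⟨M, by rw [mul_sub]; exact sub_eq_zero.2 hM⟩
    choose M hM using hm
    let k := i.down + (xi'.support ∪ yi'.support).sup M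
    refine ⟨⟨k⟩, homOfLE (show i.down ≤ k from Nat.le_add_right _ _), ?_⟩
    show scale (s ^ (k - i.down)) xi' = scale (s ^ (k - i.down)) yi'
    refine MvPolynomial.ext _ _ fun m => ?_
    rw [coeff_scale, coeff_scale, ← sub_eq_zero, ← mul_sub]
    by_cases hm0 : m = 0
    · subst hm0
      rw [show xi'.coeff 0 = yi'.coeff 0 from h0, sub_self, mul_zero]
    by_cases hms : m ∈ xi'.support ∪ yi'.support
    · have hle : M m ≤ (k - i.down) * m.degree := by
        refine le_trans ?_ (Nat.le_mul_of_pos_right _ (Nat.pos_of_ne_zero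
          (fun h => hm0 ((Finsupp.degree_eq_zero_iff m).1 h))))
        have := Finset.le_sup (f := M) hms
        omega
      rw [← pow_mul, ← Nat.sub_add_cancel hle, pow_add, mul_assoc, hM, mul_zero]
    · simp only [Finset.mem_union, not_or, notMem_support_iff] at hms
      rw [hms.1, hms.2, sub_self, mul_zero]

/-- The element `s` of the pinched ring. -/
def sPinch : pinch (A := A) A' n :=
  ⟨(C (algebraMap A A' s), s), by simp [pinch]⟩

theorem isAway_pfst : letI := (pfst (A := A) A' n).toAlgebra;
    IsLocalization.Away (sPinch s A' n) (MvPolynomial n A') := by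
  letI := (pfst (A := A) A' n).toAlgebra
  have hval : ∀ x : pinch (A := A) A' n, algebraMap _ (MvPolynomial n A') x = x.1.1 := fun _ => rfl
  refine ⟨⟨?_, ?_, ?_⟩⟩
  · rintro ⟨_, N, rfl⟩
    rw [map_pow, hval]
    exact ((IsLocalization.Away.algebraMap_isUnit s).map (C : A' →+* MvPolynomial n A')).pow N
  · intro f
    obtain ⟨e, a, ha⟩ := exists_pow_mul_eq s A' (constantCoeff f)
    refine ⟨⟨⟨(f * C (algebraMap A A' s) ^ e, a), ?_⟩, ⟨_, e, rfl⟩⟩, ?_⟩
    · show constantCoeff (f * C (algebraMap A A' s) ^ e) = algebraMap A A' a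
      simp [ha]
    · rw [map_pow, hval, hval]
      rfl
  · rintro ⟨⟨f, a⟩, hfa⟩ ⟨⟨g, b⟩, hgb⟩ (h : f = g)
    subst h
    obtain ⟨⟨_, M, rfl⟩, hM⟩ := (IsLocalization.eq_iff_exists (Submonoid.powers s) A').1
      ((show constantCoeff f = algebraMap A A' a from hfa).symm.trans hgb)
    refine ⟨⟨_, M, rfl⟩, Subtype.ext (Prod.ext rfl ?_)⟩
    exact hM

theorem ker_psnd_le (w : PrimeSpectrum (pinch (A := A) A' n)) (hw : sPinch s A' n ∈ w.asIdeal) :
    RingHom.ker (psnd A' n) ≤ w.asIdeal := by
  rintro ⟨⟨f, a⟩, hfa⟩ (ha : a = 0)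
  subst ha
  have hf : constantCoeff f = 0 := by rw [show constantCoeff f = algebraMap A A' 0 from hfa, map_zero]
  let y : pinch (A := A) A' n := ⟨(C (IsLocalization.Away.invSelf s : A') * f, 0), by
    show constantCoeff (C (IsLocalization.Away.invSelf s : A') * f) = algebraMap A A' 0
    simp [hf]⟩
  have : (⟨(f, 0), hfa⟩ : pinch (A := A) A' n) = sPinch s A' n * y := Subtype.ext (Prod.ext (by
    show f = C (algebraMap A A' s) * (C (IsLocalization.Away.invSelf s : A') * f)
    rw [← mul_assoc, ← C_mul, IsLocalization.Away.mul_invSelf, C_1, one_mul]) (by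
    show (0 : A) = s * 0
    rw [mul_zero]))
  rw [this]
  exact w.asIdeal.mul_mem_right _ hw

theorem pinch_pullback (p : A) (q : MvPolynomial n A') (h : algebraMap A A' p = constantCoeff q) :
    ∃! c : pinch (A := A) A' n, psnd A' n c = p ∧ pfst A' n c = q := by
  refine ⟨⟨(q, p), h.symm⟩, ⟨rfl, rfl⟩, ?_⟩
  rintro ⟨⟨q', p'⟩, h'⟩ ⟨hp, hq⟩
  exact Subtype.ext (Prod.ext hq hp)

variable {n}

theorem constantCoeff_surjective : Function.Surjective (constantCoeff : MvPolynomial n A' →+* A') :=
  fun a => ⟨C a, constantCoeff_C n a⟩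

include s in
/-- Maps out of the spectrum of the pinched ring are determined by the two pieces. -/
theorem pinch_hom_ext {Y : Scheme.{u}} (u v : Spec (CommRingCat.of (pinch (A := A) A' n)) ⟶ Y)
    (h1 : sp (psnd A' n) ≫ u = sp (psnd A' n) ≫ v) (h2 : sp (pfst A' n) ≫ u = sp (pfst A' n) ≫ v) :
    u = v := by
  have e3 := isAway_pfst (A := A) s A' n
  have e4 := ker_psnd_le (A := A) s A' n
  have hP : pullback.fst (𝟙 _) (sp (psnd (A := A) A' n)) ≫ u = pullback.fst (𝟙 _) (sp (psnd (A := A) A' n)) ≫ v := by
    have e : pullback.fst (𝟙 _) (sp (psnd (A := A) A' n)) = pullback.snd (𝟙 _) (sp (psnd (A := A) A' n)) ≫ sp (psnd A' n) :=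
      (Category.comp_id _).symm.trans pullback.condition
    rw [e, Category.assoc, Category.assoc, h1]
  have hQ : pullback.fst (𝟙 _) (sp (pfst (A := A) A' n)) ≫ u = pullback.fst (𝟙 _) (sp (pfst (A := A) A' n)) ≫ v := by
    have e : pullback.fst (𝟙 _) (sp (pfst (A := A) A' n)) = pullback.snd (𝟙 _) (sp (pfst (A := A) A' n)) ≫ sp (pfst A' n) :=
      (Category.comp_id _).symm.trans pullback.condition
    rw [e, Category.assoc, Category.assoc, h2]
  exact @Groth.Agent.G0Patch.ext_pieces Y (pinch (A := A) A' n) A (MvPolynomial n A') A' _ _ _ _ (psnd A' n) (pfst A' n)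
    (algebraMap A A') constantCoeff (pinch_pullback A' n) (constantCoeff_surjective A') (sPinch s A' n) e3 e4 _ (𝟙 _)
    inferInstance u v hP hQ

variable {T X : Scheme.{u}} (f : X ⟶ T) (tA : Spec (CommRingCat.of A) ⟶ T)

/-- The system of affine spaces. -/
abbrev specSeq (n : Type u) : (ULift.{u} ℕ)ᵒᵖ ⥤ Scheme.{u} := (seq s n).op ⋙ Scheme.Spec

/-- Its structure map to the base. -/
def specT : specSeq s n ⟶ (Functor.const (ULift.{u} ℕ)ᵒᵖ).obj T where
  app _ := sp (C : A →+* MvPolynomial n A) ≫ tA
  naturality i j g := by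
    show Spec.map (CommRingCat.ofHom (scale _)) ≫ sp C ≫ tA = (sp C ≫ tA) ≫ 𝟙 T
    rw [Category.comp_id, ← Category.assoc, ← Spec.map_comp, ← CommRingCat.ofHom_comp]
    rw [show (scale (n := n) (s ^ _)).comp C = C from RingHom.ext fun a => scale_C _ a]

def specCone (n : Type u) : Cone (specSeq s n) := Scheme.Spec.mapCone (pinchCocone s A' n).op

def isLimitSpecCone (n : Type u) : IsLimit (specCone s A' n) :=
  isLimitOfPreserves Scheme.Spec (isColimitPinch s A' n).op

variable [LocallyOfFiniteType f]

include s in
/-- Two maps out of `A[T]` equal over `A[1/s]` and at the origin are equal after scaling. -/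
theorem exists_scale_eq (g₁ g₂ : Spec (CommRingCat.of (MvPolynomial n A)) ⟶ X)
    (hw₁ : g₁ ≫ f = sp C ≫ tA) (hw₂ : g₂ ≫ f = sp C ≫ tA)
    (h : sp (MvPolynomial.map (σ := n) (algebraMap A A')) ≫ g₁ =
      sp (MvPolynomial.map (σ := n) (algebraMap A A')) ≫ g₂)
    (h0 : sp constantCoeff ≫ g₁ = sp constantCoeff ≫ g₂) :
    ∃ M : ℕ, sp (scale (s ^ M)) ≫ g₁ = sp (scale (s ^ M)) ≫ g₂ := by
  have e : sp (stage s A' n 0) ≫ g₁ = sp (stage s A' n 0) ≫ g₂ := by
    refine pinch_hom_ext s A' _ _ ?_ ?_
    · simp only [← Category.assoc, ← Spec.map_comp, ← CommRingCat.ofHom_comp, psnd_stage, h0]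
    · simp only [← Category.assoc, ← Spec.map_comp, ← CommRingCat.ofHom_comp, pfst_stage, pow_zero, scale_one,
        RingHom.id_comp, h]
  haveI : ∀ {i j} (g : i ⟶ j), IsAffineHom ((specSeq s n).map g) := fun g => by
    show IsAffineHom (Spec.map _); infer_instance
  haveI : ∀ i, CompactSpace ((specSeq s n).obj i) := fun i => by
    show CompactSpace (Spec _); infer_instance
  obtain ⟨k, hik, hk⟩ := Scheme.exists_hom_comp_eq_comp_of_locallyOfFiniteType (specSeq s n)
    (specT s tA) f (specCone s A' n) (isLimitSpecCone s A' n) (i := Opposite.op (ULift.up 0)) g₁ g₂ hw₁.symm hw₂.symm e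
  exact ⟨k.unop.down - 0, hk⟩

variable [LocallyOfFinitePresentation f]

include s in
/-- A map from `A[1/s][T]` with a lift at the origin comes, after scaling, from `A[T]`. -/
theorem exists_extend_scaled (h : Spec (CommRingCat.of (MvPolynomial n A')) ⟶ X)
    (h₀ : Spec (CommRingCat.of A) ⟶ X)
    (hw : h ≫ f = sp ((C : A' →+* MvPolynomial n A').comp (algebraMap A A')) ≫ tA) (hw₀ : h₀ ≫ f = tA)
    (hc : sp (constantCoeff (σ := n) (R := A')) ≫ h = sp (algebraMap A A') ≫ h₀) :
    ∃ (N : ℕ) (g : Spec (CommRingCat.of (MvPolynomial n A)) ⟶ X), g ≫ f = sp C ≫ tA ∧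
      sp (MvPolynomial.map (σ := n) (algebraMap A A')) ≫ g = sp (scale (algebraMap A A' s ^ N)) ≫ h ∧
      sp constantCoeff ≫ g = h₀ := by
  obtain ⟨hC, hC₁, hC₂⟩ := Groth.Agent.G0Patch.exists_glue (G := X) (C := pinch (A := A) A' n) (P := A)
    (Q := MvPolynomial n A') (Q0 := A') (ψ := psnd A' n) (θ := pfst A' n) (a := algebraMap A A') (b := constantCoeff)
    (pinch_pullback A' n) (constantCoeff_surjective A')
    (pfst_psnd A' n) (sPinch s A' n) (isAway_pfst s A' n) (ker_psnd_le s A' n)
    (by rw [show (algebraMap A A').toAlgebra = ‹Algebra A A'› from Algebra.algebra_ext _ _ fun _ => rfl]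
        exact ‹IsLocalization.Away s A'›) h₀ h hc.symm
  have hwC : hC ≫ f = sp (stage s A' n 0) ≫ sp C ≫ tA := by
    refine pinch_hom_ext s A' _ _ ?_ ?_
    · rw [reassoc_of% hC₁, hw₀, ← Category.assoc, ← Category.assoc, ← Spec.map_comp, ← Spec.map_comp,
        ← CommRingCat.ofHom_comp, ← CommRingCat.ofHom_comp, psnd_stage,
        show (constantCoeff (σ := n) (R := A)).comp C = RingHom.id A from RingHom.ext fun a => constantCoeff_C n a]
      simp
    · rw [reassoc_of% hC₂, hw]
      simp only [← Category.assoc, ← Spec.map_comp, ← CommRingCat.ofHom_comp, pfst_stage]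
      exact congrArg (fun φ => Spec.map (CommRingCat.ofHom φ) ≫ tA) (RingHom.ext fun a => by simp [stage])
  haveI : ∀ {i j} (g : i ⟶ j), IsAffineHom ((specSeq s n).map g) := fun g => by
    show IsAffineHom (Spec.map _); infer_instance
  haveI : ∀ i, CompactSpace ((specSeq s n).obj i) := fun i => by
    show CompactSpace (Spec _); infer_instance
  haveI : ∀ i, QuasiSeparatedSpace ((specSeq s n).obj i) := fun i => by
    show QuasiSeparatedSpace (Spec _); infer_instance
  obtain ⟨i, g, hg, hgf⟩ := Scheme.exists_π_app_comp_eq_of_locallyOfFinitePresentation (specSeq s n)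
    (specT s tA) f (specCone s A' n) (isLimitSpecCone s A' n) hC (by
      refine NatTrans.ext (funext fun i => ?_)
      show (specCone s A' n).π.app i ≫ sp C ≫ tA = hC ≫ f
      have hi := (pinchCocone s A' n).w (homOfLE (show (ULift.up 0 : ULift.{u} ℕ) ≤ i.unop from Nat.zero_le _))
      rw [hwC]
      simp only [← Category.assoc]
      show (Spec.map (CommRingCat.ofHom (stage s A' n i.unop.down)) ≫ sp C) ≫ tA = _
      simp only [← Spec.map_comp, ← CommRingCat.ofHom_comp]
      exact congrArg (fun φ => Spec.map (CommRingCat.ofHom φ) ≫ tA)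
        (RingHom.ext fun a => Subtype.ext (Prod.ext (by simp [stage]) (by simp [stage]))))
  refine ⟨i.unop.down, g, hgf, ?_, ?_⟩
  · have hg' : sp (stage s A' n i.unop.down) ≫ g = hC := hg
    rw [← hC₂, ← hg', ← Category.assoc, ← Category.assoc, ← Spec.map_comp, ← Spec.map_comp,
      ← CommRingCat.ofHom_comp, ← CommRingCat.ofHom_comp, RingHom.comp_assoc, pfst_stage, ← RingHom.comp_assoc, scale_scale, ← mul_pow,
      mul_comm, IsLocalization.Away.mul_invSelf, one_pow, scale_one, RingHom.id_comp]
  · have hg' : sp (stage s A' n i.unop.down) ≫ g = hC := hg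
    rw [← hC₁, ← hg', ← Category.assoc, ← Spec.map_comp, ← CommRingCat.ofHom_comp, psnd_stage]

end

end Groth.Agent.Patch17
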