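import Groth.Agent.Patch17.Final
import Groth.Agent.LimLib.AtPrimeLimit

/-!
# Torsors on affine space with sections over every local ring of the base
-/

set_option autoImplicit false
set_option linter.style.haveILetI false

universe u

open CategoryTheory CategoryTheory.Limits MonoidalCategory CartesianMonoidalCategory MonObj AlgebraicGeometry

namespace Groth.Agent.Patch17

open Groth.Agent.GITLib Groth.Agent.LimLib
open Groth.Agent.G0Patch (sp)

noncomputable section

section Spread

variable {A : Type u} [CommRing A] (p : Ideal A) [p.IsPrime] (n : Type u)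

theorem map_tr_self (f : AwayIdx p) :
    MvPolynomial.map (σ := n) (AwayIdx.tr (le_refl f)) = RingHom.id _ :=
  RingHom.ext fun x => by rw [AwayIdx.tr_self, MvPolynomial.map_id]; rfl

theorem map_tr_comp {f g k : AwayIdx p} (h : f ≤ g) (h' : g ≤ k) :
    MvPolynomial.map (σ := n) (AwayIdx.tr (h.trans h')) =
      (MvPolynomial.map (AwayIdx.tr h')).comp (MvPolynomial.map (AwayIdx.tr h)) :=
  RingHom.ext fun x => by rw [AwayIdx.tr_comp h h', RingHom.comp_apply, MvPolynomial.map_map]

/-- The polynomial rings over the localisations away from elements outside `p`. -/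
def polyRings : AwayIdx p ⥤ CommRingCat.{u} where
  obj f := CommRingCat.of (MvPolynomial n (Localization.Away f.val))
  map h := CommRingCat.ofHom (MvPolynomial.map (AwayIdx.tr h.le))
  map_id f := CommRingCat.hom_ext (map_tr_self p n f)
  map_comp h h' := CommRingCat.hom_ext (map_tr_comp p n h.le h'.le)

variable (B : Type u) [CommRing B] [Algebra A B] [IsLocalization.AtPrime B p]

theorem map_to_map {f g : AwayIdx p} (h : f ≤ g) (x : MvPolynomial n (Localization.Away f.val)) :
    MvPolynomial.map (AwayIdx.toAtPrime p B g) (MvPolynomial.map (AwayIdx.tr h) x) =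
      MvPolynomial.map (AwayIdx.toAtPrime p B f) x := by
  rw [MvPolynomial.map_map]
  exact congrArg (fun φ => MvPolynomial.map φ x) (AwayIdx.hom_ext fun a => by
    rw [RingHom.comp_apply, AwayIdx.tr_algebraMap, AwayIdx.toAtPrime_algebraMap, AwayIdx.toAtPrime_algebraMap])

/-- The polynomial ring over the local ring as a cocone. -/
def polyCocone : Cocone (polyRings p n) :=
  ⟨CommRingCat.of (MvPolynomial n B),
    { app := fun f => CommRingCat.ofHom (MvPolynomial.map (AwayIdx.toAtPrime p B f))
      naturality := fun _ _ h => CommRingCat.hom_ext (RingHom.ext fun x => map_to_map p n B h.le x) }⟩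

theorem exists_poly_stage (x : MvPolynomial n B) :
    ∃ (f : AwayIdx p) (y : MvPolynomial n (Localization.Away f.val)),
      MvPolynomial.map (AwayIdx.toAtPrime p B f) y = x := by
  induction x using MvPolynomial.induction_on with
  | C b =>
    obtain ⟨⟨a, s⟩, hb⟩ := IsLocalization.surj p.primeCompl b
    let f : AwayIdx p := ⟨s.1, s.2⟩
    refine ⟨f, MvPolynomial.C (IsLocalization.mk' (Localization.Away f.val) a
      (⟨f.val, Submonoid.mem_powers _⟩ : Submonoid.powers f.val)), ?_⟩
    rw [MvPolynomial.map_C]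
    refine congrArg MvPolynomial.C ((IsLocalization.map_units B s).mul_right_cancel ?_)
    rw [hb, ← AwayIdx.toAtPrime_algebraMap p B f (s : A), ← map_mul]
    erw [IsLocalization.mk'_spec, AwayIdx.toAtPrime_algebraMap]
  | add x y hx hy =>
    obtain ⟨f, x', hx'⟩ := hx
    obtain ⟨g, y', hy'⟩ := hy
    obtain ⟨k, hf, hg⟩ := exists_ge_ge f g
    exact ⟨k, MvPolynomial.map (AwayIdx.tr hf) x' + MvPolynomial.map (AwayIdx.tr hg) y', by
      rw [map_add, map_to_map, map_to_map, hx', hy']⟩
  | mul_X x i hx =>
    obtain ⟨f, x', hx'⟩ := hx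
    exact ⟨f, x' * MvPolynomial.X i, by rw [map_mul, hx', MvPolynomial.map_X]⟩

theorem exists_poly_eq {f : AwayIdx p} (x : MvPolynomial n (Localization.Away f.val))
    (hx : MvPolynomial.map (AwayIdx.toAtPrime p B f) x = 0) :
    ∃ (k : AwayIdx p) (h : f ≤ k), MvPolynomial.map (AwayIdx.tr h) x = 0 := by
  classical
  have hc : ∀ m, ∃ (k : AwayIdx p) (h : f ≤ k), AwayIdx.tr h (x.coeff m) = 0 := by
    intro m
    have e := congrArg (MvPolynomial.coeff m) hx
    rw [MvPolynomial.coeff_map, MvPolynomial.coeff_zero] at e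
    obtain ⟨d, a, ha⟩ := IsLocalization.Away.surj f.val (x.coeff m)
    have ea : algebraMap A B a = 0 := by
      rw [← AwayIdx.toAtPrime_algebraMap p B f a, ← ha, map_mul, e, zero_mul]
    obtain ⟨s, hs⟩ := (IsLocalization.map_eq_zero_iff p.primeCompl B a).1 ea
    refine ⟨f.mul ⟨s.1, s.2⟩, AwayIdx.le_mul_left _ _, ?_⟩
    have hsu : IsUnit (algebraMap A (Localization.Away (f.mul ⟨s.1, s.2⟩).val) s.1) :=
      AwayIdx.le_mul_right f ⟨s.1, s.2⟩
    have hfu : IsUnit (algebraMap A (Localization.Away (f.mul ⟨s.1, s.2⟩).val) f.val) :=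
      AwayIdx.le_mul_left f ⟨s.1, s.2⟩
    have h1 := congrArg (AwayIdx.tr (AwayIdx.le_mul_left f ⟨s.1, s.2⟩)) ha
    simp only [map_mul, map_pow, AwayIdx.tr_algebraMap] at h1
    refine (hfu.pow d).mul_left_eq_zero.1 (h1.trans (hsu.mul_right_eq_zero.1 ?_))
    rw [← map_mul, hs, map_zero]
  choose k hk hk0 using hc
  obtain ⟨K, hK⟩ := Finset.exists_le (insert f (x.support.image k))
  refine ⟨K, hK f (Finset.mem_insert_self _ _), MvPolynomial.ext _ _ fun m => ?_⟩
  rw [MvPolynomial.coeff_map, MvPolynomial.coeff_zero]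
  by_cases hm : m ∈ x.support
  · have hle : k m ≤ K := hK _ (Finset.mem_insert_of_mem (Finset.mem_image_of_mem k hm))
    rw [show AwayIdx.tr _ (x.coeff m) = AwayIdx.tr hle (AwayIdx.tr (hk m) (x.coeff m)) from
      (RingHom.congr_fun (AwayIdx.tr_comp (hk m) hle) _), hk0, map_zero]
  · rw [MvPolynomial.notMem_support_iff.1 hm, map_zero]

/-- The polynomial ring over the local ring is the colimit. -/
def isColimitPolyCocone : IsColimit (polyCocone p n B) := by
  have : PreservesColimit (polyRings p n) (forget CommRingCat.{u}) := inferInstance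
  have : ReflectsColimit (polyRings p n) (forget CommRingCat.{u}) := reflectsColimit_of_reflectsIsomorphisms _ _
  refine isColimitOfReflects (forget CommRingCat.{u}) (Types.FilteredColimit.isColimitOf' _ _
    (fun x => ?_) fun f x y h => ?_)
  · obtain ⟨f, y, hy⟩ := exists_poly_stage p n B x
    exact ⟨f, y, hy.symm⟩
  · let x' : MvPolynomial n (Localization.Away f.val) := x
    let y' : MvPolynomial n (Localization.Away f.val) := y
    obtain ⟨k, hk, h0⟩ := exists_poly_eq p n B (x' - y') (by
      rw [map_sub, sub_eq_zero]; exact h)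
    refine ⟨k, homOfLE hk, ?_⟩
    rw [map_sub, sub_eq_zero] at h0
    exact h0

/-- A point over the local ring of an lfp scheme over affine space spreads out. -/
theorem exists_spread_poly {X : Scheme.{u}} (φ : X ⟶ Spec (CommRingCat.of (MvPolynomial n A)))
    [LocallyOfFinitePresentation φ] (h : Spec (CommRingCat.of (MvPolynomial n B)) ⟶ X)
    (hh : h ≫ φ = sp (MvPolynomial.map (algebraMap A B))) :
    ∃ (f : A) (_ : f ∉ p) (g : Spec (CommRingCat.of (MvPolynomial n (Localization.Away f))) ⟶ X),
      g ≫ φ = sp (MvPolynomial.map (algebraMap A (Localization.Away f))) := by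
  let D : (AwayIdx p)ᵒᵖ ⥤ Scheme.{u} := (polyRings p n).op ⋙ Scheme.Spec
  let c : Cone D := Scheme.Spec.mapCone (polyCocone p n B).op
  let hc : IsLimit c := isLimitOfPreserves Scheme.Spec (isColimitPolyCocone p n B).op
  let t : D ⟶ (Functor.const (AwayIdx p)ᵒᵖ).obj (Spec (CommRingCat.of (MvPolynomial n A))) :=
    { app := fun i => sp (MvPolynomial.map (algebraMap A (Localization.Away i.unop.val)))
      naturality := fun i j g => by
        show sp (MvPolynomial.map (AwayIdx.tr g.unop.le)) ≫
            sp (MvPolynomial.map (algebraMap A (Localization.Away j.unop.val))) =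
          sp (MvPolynomial.map (algebraMap A (Localization.Away i.unop.val))) ≫ 𝟙 _
        rw [Category.comp_id, ← Spec.map_comp, ← CommRingCat.ofHom_comp]
        exact congrArg (fun φ => sp φ) (MvPolynomial.ringHom_ext (fun a => by simp) fun v => by simp) }
  haveI hA : ∀ i, IsAffine (D.obj i) := fun i => isAffine_Spec _
  haveI : ∀ {i j} (g : i ⟶ j), IsAffineHom (D.map g) := fun g => isAffineHom_of_isAffine _
  haveI : ∀ i, CompactSpace (D.obj i) := fun i => inferInstance
  haveI : ∀ i, QuasiSeparatedSpace (D.obj i) := fun i => inferInstance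
  obtain ⟨i, g, -, hg⟩ := Scheme.exists_π_app_comp_eq_of_locallyOfFinitePresentation D t φ c hc h (by
    refine NatTrans.ext (funext fun i => ?_)
    show c.π.app i ≫ t.app i = h ≫ φ
    rw [hh]
    show sp (MvPolynomial.map (AwayIdx.toAtPrime p B i.unop)) ≫
        sp (MvPolynomial.map (algebraMap A (Localization.Away i.unop.val))) = _
    rw [← Spec.map_comp, ← CommRingCat.ofHom_comp]
    exact congrArg (fun φ => sp φ)
      (MvPolynomial.ringHom_ext (fun a => by simp [AwayIdx.toAtPrime_algebraMap]) fun v => by simp))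
  exact ⟨i.unop.val, i.unop.notMem, g, hg⟩

end Spread

section FamOfSection

variable {S B U : Scheme.{u}} (k : B ⟶ S) {G : Over S} [GrpObj G]
  (X : NonAbH1.TorsorSch (Red.bc k G) Scheme.fppfPrecoverage) {z : S ⟶ B} (hz : z ≫ k = 𝟙 S) (j : U ⟶ S)

/-- A section over `B ×_S U` identifies `X` with the pullback of its fibre at zero. -/
theorem descFam_of_section (σ : Over.mk k ⊗ Over.mk j ⟶ torTot k X) (hσ : σ ≫ totπ k X.X = fst _ _) :
    DescFam k X hz j := by
  have hE := isRelTorsor_torTot k X
  have hT := (isTorsor_zero k X hz).1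
  let z₀ := zeroSec k hz
  let σ₀ : Over.mk j ⟶ zeroX k X (z := z) :=
    (isPullback_zero k X hz).lift (lift (toUnit _ ≫ z₀) (𝟙 _) ≫ σ) (toUnit _) (by
      rw [Category.assoc, hσ, lift_fst])
  let W₀ := (Over.mk k ⊗ Over.mk j) ⊗ zeroX k X (z := z)
  obtain ⟨γ, hγ, hγu⟩ := existsUnique_diff hT (fst (Over.mk k ⊗ Over.mk j) (zeroX k X (z := z)) ≫ snd _ _ ≫ σ₀)
    (snd (Over.mk k ⊗ Over.mk j) (zeroX k X (z := z)))
  refine ⟨lift γ (fst _ _ ≫ σ) ≫ (totAct X.act).act, fun {V} t g q => ?_, ?_⟩
  · simp only [comp_lift_assoc, lift_fst_assoc]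
    rw [← (totAct X.act).lift_mul_act]
    refine congrArg (fun w => lift w (t ≫ σ) ≫ (totAct X.act).act) ?_
    refine (existsUnique_diff hT (t ≫ snd _ _ ≫ σ₀) (lift g q ≫ (zeroAct k X hz).act)).unique ?_ ?_
    · have e := congrArg (lift t (lift g q ≫ (zeroAct k X hz).act) ≫ ·) hγ
      simp only [comp_lift_assoc, lift_fst_assoc, lift_snd] at e
      exact e
    · have e := congrArg (lift t q ≫ ·) hγ
      simp only [comp_lift_assoc, lift_fst_assoc, lift_snd] at e
      show lift (g * _) _ ≫ _ = _
      rw [(zeroAct k X hz).lift_mul_act]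
      exact congrArg (fun w => lift g w ≫ (zeroAct k X hz).act) e
  · simp only [Category.assoc]
    rw [hE.inv, lift_snd_assoc, Category.assoc, hσ]

end FamOfSection

variable {R : Type u} [CommRing R] {n : Type u} {B : Scheme.{u}} {k : B ⟶ Spec (CommRingCat.of R)}
  (β : Over.mk k ≅ SA (R := R) (MvPolynomial n R))
  {G : Over (Spec (CommRingCat.of R))} [GrpObj G] [LocallyOfFinitePresentation G.hom]
  (X : NonAbH1.TorsorSch (Red.bc k G) Scheme.fppfPrecoverage)

theorem lfp_torsor : LocallyOfFinitePresentation X.X.hom := by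
  haveI : LocallyOfFinitePresentation (Red.bc k G).hom :=
    MorphismProperty.pullback_snd _ _ ‹LocallyOfFinitePresentation G.hom›
  exact property_of_torsor @LocallyOfFinitePresentation
    (isTorsorFor_mono Scheme.fppfPrecoverage_le_fpqcPrecoverage X.isTorsor) inferInstance

/-- A torsor on affine space with sections over every localisation at a maximal ideal descends. -/
theorem descAlg_of_sections
    (hsec : ∀ (m : Ideal R) [m.IsMaximal],
      ∃ h : SA (R := R) (MvPolynomial n (Localization.AtPrime m)) ⟶ torTot k X,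
        h ≫ totπ k X.X ≫ β.hom = chPt _ n) : DescAlg β X R := by
  refine descAlg_self_of_locally β X fun s => ?_
  obtain ⟨m, hm, hle⟩ := Ideal.exists_le_maximal s.asIdeal s.isPrime.ne_top
  obtain ⟨h, hh⟩ := hsec m
  haveI := lfp_torsor X
  haveI : IsIso β.hom.left := inferInstanceAs (IsIso ((Over.forget _).map β.hom))
  obtain ⟨f, hf, g, hg⟩ := exists_spread_poly m n (Localization.AtPrime m) (X.X.hom ≫ β.hom.left) h.left
    (congrArg CommaMorphism.left hh)
  haveI : IsOpenImmersion (Spec.map (CommRingCat.ofHom (algebraMap R (Localization.Away f)))) :=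
    IsOpenImmersion.of_isLocalization f
  refine ⟨_, Spec.map (CommRingCat.ofHom (algebraMap R (Localization.Away f))), inferInstance, ?_, ?_⟩
  · show s ∈ Set.range (PrimeSpectrum.comap (algebraMap R (Localization.Away f)))
    rw [PrimeSpectrum.localization_away_comap_range (Localization.Away f) f]
    exact fun hs => hf (hle hs)
  · let g' : SA (R := R) (MvPolynomial n (Localization.Away f)) ⟶ torTot k X := Over.homMk g (by
      show g ≫ X.X.hom ≫ k = _
      refine (congrArg (g ≫ X.X.hom ≫ ·) (Over.w β.hom).symm).trans ?_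
      show g ≫ X.X.hom ≫ β.hom.left ≫ _ = _
      rw [reassoc_of% hg]
      exact Over.w (chPt (R := R) (Localization.Away f) n))
    have hg' : g' ≫ totπ k X.X ≫ β.hom = chPt _ n := Over.OverMorphism.ext hg
    let e := cA (R := R) (Localization.Away f) n ≫ β.inv ▷ SA (R := R) (Localization.Away f)
    have he : e ≫ fst _ _ = chPt (Localization.Away f) n ≫ β.inv := by simp [e, cA]
    refine descFam_of_section k X (originB_over β) _ (inv e ≫ g') ?_
    rw [← cancel_mono β.hom, Category.assoc, Category.assoc, hg', ← cancel_epi e, IsIso.hom_inv_id_assoc,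
      reassoc_of% he, Iso.inv_hom_id, Category.comp_id]

omit [LocallyOfFinitePresentation G.hom] in
/-- A descended torsor with a point over the origin has a section. -/
theorem hasSection_of_descAlg (h : DescAlg β X R) (s₀ : Spec (CommRingCat.of R) ⟶ X.X.left)
    (hs₀ : s₀ ≫ X.X.hom = originB β) : NonAbH1.HasSectionOver X.X (𝟙 B) := by
  obtain ⟨f, -, hfπ⟩ := h
  have hj0 : Spec.map (CommRingCat.ofHom (algebraMap R R)) = 𝟙 (Spec (CommRingCat.of R)) := Spec.map_id _
  let l : Over.mk k ⟶ Over.mk (Spec.map (CommRingCat.ofHom (algebraMap R R))) :=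
    Over.homMk k (by show k ≫ Spec.map _ = k; rw [hj0, Category.comp_id])
  let a : 𝟙_ (Over (Spec (CommRingCat.of R))) ⟶ zeroX k X (z := originB β) :=
    Over.homMk (pullback.lift s₀ (𝟙 _) (by rw [hs₀, Category.id_comp])) (pullback.lift_snd _ _ _)
  let σ : Over.mk k ⟶ torTot k X := lift (lift (𝟙 _) l) (toUnit _ ≫ a) ≫ f
  have hσ : σ ≫ totπ k X.X = 𝟙 _ := by
    simp only [σ, Category.assoc, hfπ, lift_fst_assoc, lift_fst]
  exact ⟨σ.left, congrArg CommaMorphism.left hσ⟩

end

end Groth.Agent.Patch17
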