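import Groth.Agent.Patch17.Ext
import Mathlib.RingTheory.MvPolynomial.Localization

/-!
# Substitutions in nested polynomial rings
-/

set_option autoImplicit false
set_option linter.style.haveILetI false

universe u

open CategoryTheory MonoidalCategory CartesianMonoidalCategory AlgebraicGeometry

namespace Groth.Agent.Patch17

noncomputable section

attribute [local instance] MvPolynomial.algebraMvPolynomial

variable {R : Type u} [CommRing R] (A : Type u) [CommRing A] [Algebra R A] (n : Type u)

/-- The sum of the two sets of variables. -/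
def sumPt : SA (R := R) (MvPolynomial n (MvPolynomial n A)) ⟶ SA (R := R) (MvPolynomial n A) :=
  pt ((MvPolynomial.aeval fun i => MvPolynomial.C (MvPolynomial.X i) + MvPolynomial.X i :
    MvPolynomial n A →ₐ[A] MvPolynomial n (MvPolynomial n A)).restrictScalars R)

/-- The first set of variables. -/
def fstPt : SA (R := R) (MvPolynomial n (MvPolynomial n A)) ⟶ SA (R := R) (MvPolynomial n A) :=
  pt ((MvPolynomial.aeval fun i => MvPolynomial.C (MvPolynomial.X i) :
    MvPolynomial n A →ₐ[A] MvPolynomial n (MvPolynomial n A)).restrictScalars R)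

/-- Substituting `v T` and `b T` for the two sets of variables. -/
def substAlg (v b : A) : MvPolynomial n (MvPolynomial n A) →ₐ[R] MvPolynomial n A :=
  { MvPolynomial.eval₂Hom (scale v) (fun i => MvPolynomial.C b * MvPolynomial.X i) with
    commutes' := fun x => by
      show MvPolynomial.eval₂Hom _ _ (MvPolynomial.C (MvPolynomial.C (algebraMap R A x))) = _
      rw [MvPolynomial.eval₂Hom_C, scale_C]
      rfl }

@[simp] theorem substAlg_C (v b : A) (p : MvPolynomial n A) :
    substAlg (R := R) A n v b (MvPolynomial.C p) = scale v p := MvPolynomial.eval₂Hom_C _ _ _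

@[simp] theorem substAlg_X (v b : A) (i : n) :
    substAlg (R := R) A n v b (MvPolynomial.X i) = MvPolynomial.C b * MvPolynomial.X i :=
  MvPolynomial.eval₂Hom_X' _ _ _

/-- Substituting `v T` and `b T` for the two sets of variables. -/
def substPt (v b : A) : SA (R := R) (MvPolynomial n A) ⟶ SA (R := R) (MvPolynomial n (MvPolynomial n A)) :=
  pt (substAlg (R := R) A n v b)

variable {A n}

theorem scaleAlg_C (c a : A) : scaleAlg (R := R) n c (MvPolynomial.C a) = MvPolynomial.C a := by simp

theorem scaleAlg_X (c : A) (i : n) :
    scaleAlg (R := R) n c (MvPolynomial.X i) = MvPolynomial.C c * MvPolynomial.X i := by simp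

theorem origin_sum_fst : originPt (R := R) (MvPolynomial n A) n ≫ sumPt A n =
    originPt (R := R) (MvPolynomial n A) n ≫ fstPt A n := by
  simp only [sumPt, fstPt, pt_comp]
  refine congrArg pt (AlgHom.coe_ringHom_injective ?_)
  exact MvPolynomial.ringHom_ext (fun a => by simp) fun i => by simp

theorem subst_scale_sum (v b c : A) (h : v + c * b = 1) :
    substPt (R := R) A n v b ≫ pt (scaleAlg (R := R) n (MvPolynomial.C (σ := n) c)) ≫ sumPt A n = 𝟙 _ := by
  simp only [substPt, sumPt, pt_comp, ← pt_id]
  refine congrArg pt (AlgHom.coe_ringHom_injective (MvPolynomial.ringHom_ext (fun a => ?_) fun i => ?_))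
  · simp
  · simp only [RingHom.coe_coe, MvPolynomial.aeval_C, MvPolynomial.algebraMap_eq, AlgHom.comp_apply, AlgHom.restrictScalars_apply,
      MvPolynomial.aeval_X, map_add, scaleAlg_C, scaleAlg_X, map_mul, substAlg_C, substAlg_X, scale_C, scale_X,
      AlgHom.id_apply]
    rw [← _root_.mul_assoc, ← map_mul, ← add_mul, ← map_add, h, map_one, one_mul]

theorem subst_scale_fst (v b c : A) :
    substPt (R := R) A n v b ≫ pt (scaleAlg (R := R) n (MvPolynomial.C (σ := n) c)) ≫ fstPt A n =
      pt (scaleAlg (R := R) n v) := by
  simp only [substPt, fstPt, pt_comp]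
  refine congrArg pt (AlgHom.coe_ringHom_injective (MvPolynomial.ringHom_ext (fun a => ?_) fun i => ?_))
  · simp
  · simp

variable {A' : Type u} [CommRing A'] [Algebra R A'] [Algebra A A'] [IsScalarTower R A A']

theorem locPt_scale (c : A) : locPt (R := R) A A' n ≫ pt (scaleAlg (R := R) n c) =
    pt (scaleAlg (R := R) n (algebraMap A A' c)) ≫ locPt A A' n := by
  simp only [locPt, pt_comp]
  refine congrArg pt (AlgHom.coe_ringHom_injective ?_)
  exact MvPolynomial.ringHom_ext (fun a => by simp) fun i => by simp

theorem scalePt_scale (c d : A) :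
    pt (scaleAlg (R := R) n c) ≫ pt (scaleAlg (R := R) n d) = pt (scaleAlg (R := R) n (c * d)) := by
  simp only [pt_comp]
  refine congrArg pt (AlgHom.coe_ringHom_injective ?_)
  exact MvPolynomial.ringHom_ext (fun a => by simp) fun i => by simp [_root_.mul_comm, _root_.mul_assoc, mul_left_comm]

instance isScalarTower_mvPolynomial : IsScalarTower R (MvPolynomial n A) (MvPolynomial n A') :=
  IsScalarTower.of_algebraMap_eq fun x => by
    show algebraMap R (MvPolynomial n A') x = MvPolynomial.map _ (MvPolynomial.C (algebraMap R A x))
    rw [MvPolynomial.map_C, ← IsScalarTower.algebraMap_apply]; rfl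

theorem locPt_subst (v b : A) : locPt (R := R) A A' n ≫ substPt (R := R) A n v b =
    substPt (R := R) A' n (algebraMap A A' v) (algebraMap A A' b) ≫
      locPt (R := R) (MvPolynomial n A) (MvPolynomial n A') n := by
  simp only [locPt, substPt, pt_comp]
  refine congrArg pt (AlgHom.coe_ringHom_injective (MvPolynomial.ringHom_ext (fun p => ?_) fun i => ?_))
  · show MvPolynomial.map (algebraMap A A') (substAlg (R := R) A n v b (MvPolynomial.C p)) =
      substAlg (R := R) A' n _ _ (MvPolynomial.map (MvPolynomial.map (algebraMap A A')) (MvPolynomial.C p))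
    rw [MvPolynomial.map_C, substAlg_C, substAlg_C, ← RingHom.comp_apply, map_comp_scale]
    rfl
  · show MvPolynomial.map (algebraMap A A') (substAlg (R := R) A n v b (MvPolynomial.X i)) =
      substAlg (R := R) A' n _ _ (MvPolynomial.map (MvPolynomial.map (algebraMap A A')) (MvPolynomial.X i))
    simp

theorem isAway_C (s : A) [IsLocalization.Away s A'] :
    IsLocalization.Away (MvPolynomial.C (σ := n) s) (MvPolynomial n A') := by
  have := MvPolynomial.isLocalization (σ := n) (Submonoid.powers s) A'
  rwa [Submonoid.map_powers] at this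

end

end Groth.Agent.Patch17
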