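import Groth.Agent.Patch17.Fam
import Groth.Prelude.Def_ActBC

/-!
# A scheme over `B` with an action of `G ×_S B` as a scheme over `S` with an action of `G`
-/

set_option autoImplicit false

universe u

open CategoryTheory CategoryTheory.Limits MonoidalCategory CartesianMonoidalCategory MonObj AlgebraicGeometry

namespace Groth.Agent.Patch17

noncomputable section

variable {S B B' : Scheme.{u}} (k : B ⟶ S)

/-- An object over `B` as an object over `S`. -/
abbrev tot (X : Over B) : Over S := (Over.map k).obj X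

/-- The structure map to `B`. -/
def totπ (X : Over B) : tot k X ⟶ Over.mk k := Over.homMk X.hom rfl

@[simp] theorem totπ_left (X : Over B) : (totπ k X).left = X.hom := rfl

variable {k} {X : Over B} {V W : Over S}

/-- A test object over `S` with a point of `tot X` is a test object over `B`. -/
abbrev ptB (x : V ⟶ tot k X) : Over B := Over.mk (x.left ≫ X.hom)

/-- The point over `B`. -/
def ptHat (x : V ⟶ tot k X) : ptB x ⟶ X := Over.homMk x.left

/-- The identification with the test object. -/
def ptE (x : V ⟶ tot k X) : (Over.map k).obj (ptB x) ⟶ V :=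
  Over.homMk (𝟙 V.left) ((Category.id_comp _).trans ((Over.w x).symm.trans (Category.assoc _ _ _).symm))

instance (x : V ⟶ tot k X) : IsIso (ptE x) := by
  haveI : IsIso ((Over.forget S).map (ptE x)) := inferInstanceAs (IsIso (𝟙 V.left))
  exact isIso_of_reflects_iso _ (Over.forget S)

variable {G : Over S} [GrpObj G]

/-- A point of `G` over the point of `tot X`. -/
def grpHat (g : V ⟶ G) (x : V ⟶ tot k X) : ptB x ⟶ Red.bc k G :=
  (Over.mapPullbackAdj k).homEquiv (ptB x) G (ptE x ≫ g)

theorem homEquiv_left_fst {T : Over B} {Z : Over S} (f : (Over.map k).obj T ⟶ Z) :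
    ((Over.mapPullbackAdj k).homEquiv T Z f).left ≫ pullback.fst Z.hom k = f.left := by
  simp [Over.mapPullbackAdj, Over.pullback]
  exact pullback.lift_fst f.left T.hom (Over.w f)

omit [GrpObj G] in
@[simp] theorem grpHat_left_fst (g : V ⟶ G) (x : V ⟶ tot k X) :
    (grpHat g x).left ≫ pullback.fst G.hom k = g.left :=
  (homEquiv_left_fst _).trans (Category.id_comp _)

theorem hom_bc_ext {T : Over B} {Z : Over S} {f f' : T ⟶ Red.bc k Z}
    (h : f.left ≫ pullback.fst Z.hom k = f'.left ≫ pullback.fst Z.hom k) : f = f' :=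
  Over.OverMorphism.ext (pullback.hom_ext h ((Over.w f).trans (Over.w f').symm))

theorem grpHat_mul (g h : V ⟶ G) (x : V ⟶ tot k X) : grpHat (g * h) x = grpHat g x * grpHat h x := by
  unfold grpHat
  rw [MonObj.comp_mul]
  exact AlgGrp.Action.homEquiv_mul k _ _

theorem grpHat_one (x : V ⟶ tot k X) : grpHat (1 : V ⟶ G) x = 1 := by
  have h := grpHat_mul (1 : V ⟶ G) 1 x
  rw [_root_.mul_one] at h
  exact mul_left_cancel (a := grpHat (1 : V ⟶ G) x) (by rw [_root_.mul_one]; exact h.symm)

variable (a : AlgGrp.Action (Red.bc k G) X)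

/-- The action on points. -/
def actPt (g : V ⟶ G) (x : V ⟶ tot k X) : V ⟶ tot k X :=
  Over.homMk (lift (grpHat g x) (ptHat x) ≫ a.act).left (by
    show _ ≫ X.hom ≫ k = V.hom
    rw [← Category.assoc, Over.w (lift (grpHat g x) (ptHat x) ≫ a.act)]
    exact (Category.assoc _ _ _).trans (Over.w x))

theorem actPt_π (g : V ⟶ G) (x : V ⟶ tot k X) : actPt a g x ≫ totπ k X = x ≫ totπ k X :=
  Over.OverMorphism.ext (Over.w (lift (grpHat g x) (ptHat x) ≫ a.act))

theorem comp_actPt (l : W ⟶ V) (g : V ⟶ G) (x : V ⟶ tot k X) :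
    l ≫ actPt a g x = actPt a (l ≫ g) (l ≫ x) := by
  refine Over.OverMorphism.ext ?_
  let l' : ptB (l ≫ x) ⟶ ptB x := Over.homMk l.left (Category.assoc _ _ _).symm
  show (l' ≫ lift (grpHat g x) (ptHat x) ≫ a.act).left = (lift (grpHat (l ≫ g) (l ≫ x)) (ptHat (l ≫ x)) ≫ a.act).left
  have e1 : l' ≫ grpHat g x = grpHat (l ≫ g) (l ≫ x) := by
    refine hom_bc_ext ?_
    rw [grpHat_left_fst, Over.comp_left, Category.assoc, grpHat_left_fst]
    rfl
  have e2 : l' ≫ ptHat x = ptHat (l ≫ x) := Over.OverMorphism.ext rfl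
  rw [comp_lift_assoc, e1, e2]

theorem actPt_one (x : V ⟶ tot k X) : actPt a 1 x = x := by
  refine Over.OverMorphism.ext ?_
  show (lift (grpHat (1 : V ⟶ G) x) (ptHat x) ≫ a.act).left = x.left
  rw [grpHat_one, a.lift_one_act]
  rfl

theorem actPt_mul (g h : V ⟶ G) (x : V ⟶ tot k X) : actPt a (g * h) x = actPt a g (actPt a h x) := by
  refine Over.OverMorphism.ext ?_
  let c : ptB x ⟶ ptB (actPt a h x) := Over.homMk (𝟙 V.left)
    ((Category.id_comp _).trans (congrArg CommaMorphism.left (actPt_π a h x)))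
  have e1 : c ≫ grpHat g (actPt a h x) = grpHat g x := by
    refine hom_bc_ext ?_
    rw [grpHat_left_fst, Over.comp_left, Category.assoc, grpHat_left_fst]
    exact Category.id_comp _
  have e2 : c ≫ ptHat (actPt a h x) = lift (grpHat h x) (ptHat x) ≫ a.act :=
    Over.OverMorphism.ext (Category.id_comp _)
  show (lift (grpHat (g * h) x) (ptHat x) ≫ a.act).left =
    (lift (grpHat g (actPt a h x)) (ptHat (actPt a h x)) ≫ a.act).left
  rw [grpHat_mul, a.lift_mul_act, ← e2, ← e1, ← comp_lift_assoc]
  exact Category.id_comp _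

/-- The action of `G` on the total space. -/
def totAct : AlgGrp.Action G (tot k X) where
  act := actPt a (fst G (tot k X)) (snd G (tot k X))
  one_act := by
    rw [comp_actPt, whiskerRight_fst, whiskerRight_snd,
      show fst (𝟙_ (Over S)) (tot k X) ≫ η[G] = 1 by rw [Hom.one_def, toUnit_unique (fst _ _) (toUnit _)],
      actPt_one, leftUnitor_hom]
  mul_act := by
    apply AlgGrp.Action.hom_ext_lift₃
    intro T g h x
    simp only [lift_whiskerRight_assoc, lift_lift_associator_hom_assoc, lift_whiskerLeft_assoc]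
    simp only [comp_actPt, lift_fst, lift_snd]
    rw [← Hom.mul_def, actPt_mul]

theorem lift_totAct (g : V ⟶ G) (x : V ⟶ tot k X) : lift g x ≫ (totAct a).act = actPt a g x := by
  show lift g x ≫ actPt a _ _ = _
  rw [comp_actPt, lift_fst, lift_snd]

/-- A pseudo-torsor over `B` is a torsor relative to `B`. -/
theorem isRelTorsor_tot (h : NonAbH1.IsPseudoTorsorSch a) : IsRelTorsor (totAct a) (totπ k X) where
  inv := actPt_π a _ _
  diff := by
    intro V x y e
    let y' : ptB x ⟶ X := Over.homMk y.left (congrArg CommaMorphism.left e).symm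
    obtain ⟨γ, hγ, hu⟩ := GITLib.existsUnique_diff h (ptHat x) y'
    refine ⟨inv (ptE x) ≫ ((Over.mapPullbackAdj k).homEquiv _ _).symm γ, ?_, fun g hg => ?_⟩
    · show lift _ x ≫ (totAct a).act = y
      rw [lift_totAct]
      refine Over.OverMorphism.ext ?_
      show (lift (grpHat _ x) (ptHat x) ≫ a.act).left = y.left
      rw [show grpHat (inv (ptE x) ≫ ((Over.mapPullbackAdj k).homEquiv _ _).symm γ) x = γ by
        rw [grpHat, IsIso.hom_inv_id_assoc, Equiv.apply_symm_apply]]
      exact congrArg CommaMorphism.left hγ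
    · rw [← cancel_epi (ptE x), IsIso.hom_inv_id_assoc, ← hu (grpHat g x) ?_, grpHat, Equiv.symm_apply_apply]
      refine Over.OverMorphism.ext ?_
      show _ = y.left
      rw [← hg, lift_totAct]
      rfl

end

end Groth.Agent.Patch17
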